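import Groth.Agent.ExactConstrLib.Constr
import Groth.Agent.FibreDepth.IsoModel
import Groth.Agent.FibreDepth.ConstrScheme
import Groth.Agent.FittSheafLib.Basic
import Groth.Agent.FittLib.Minor
import Groth.Agent.S6892
import Groth.Agent.PullbackMod.LimFree
import Groth.Agent.GeomRk.NormalFlat

/-!
Constructibility of the locus where the fibre of a module is free of given rank.
-/

set_option autoImplicit false
set_option linter.style.haveILetI false
set_option linter.unusedSectionVars false
universe u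

open CategoryTheory AlgebraicGeometry TopologicalSpace Topology Matrix TensorProduct

noncomputable section

namespace Groth.Agent.ExactConstrLib

open FibreDepth

attribute [local instance] Algebra.TensorProduct.rightAlgebra

/-- Free modules of rank `n` over a local ring, by Fitting ideals. -/
theorem nonempty_basis_iff {R N : Type u} [CommRing R] [IsLocalRing R] [AddCommGroup N] [Module R N]
    [Module.Finite R N] (n : ℕ) :
    Nonempty (N ≃ₗ[R] (Fin n → R)) ↔ Fitt.ideal R N n = ⊤ ∧ (n ≠ 0 → Fitt.ideal R N (n - 1) = ⊥) := by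
  classical
  constructor
  · rintro ⟨e⟩
    let b : Module.Basis (Fin n) R N := Module.Basis.ofEquivFun e
    refine ⟨FittLib.ideal_eq_top b b.span_eq le_rfl, fun hn => ?_⟩
    rw [FittLib.ideal_eq_minors b b.span_eq, eq_bot_iff, Ideal.span_le]
    rintro _ ⟨z, ε, hz, rfl⟩
    have hz0 : z = 0 := by
      funext j i
      exact Fintype.linearIndependent_iff.1 b.linearIndependent (z j) (hz j) i
    haveI : Nonempty (Fin (n - (n - 1))) := ⟨⟨0, by omega⟩⟩
    subst hz0
    show Matrix.det (0 : Matrix (Fin (n - (n - 1))) (Fin (n - (n - 1))) R) ∈ (⊥ : Ideal R)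
    rw [Matrix.det_zero]
    exact Submodule.zero_mem _
  · rintro ⟨htop, hbot⟩
    obtain ⟨g, hg⟩ := FittLib.exists_span_of_ideal_eq_top htop
    have hli : LinearIndependent R g := by
      rw [Fintype.linearIndependent_iff]
      intro v hv i
      have hn : n ≠ 0 := fun h => absurd i.2 (by omega)
      have hmem : v i ∈ Fitt.ideal R N (n - 1) := by
        rw [FittLib.ideal_eq_minors g hg]
        haveI : Subsingleton (Fin (n - (n - 1))) := ⟨fun a b => Fin.ext (by omega)⟩
        refine Ideal.subset_span ⟨fun _ => v, fun _ => i, fun _ => hv, ?_⟩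
        have h0 : 0 < n - (n - 1) := by omega
        rw [Matrix.det_eq_elem_of_subsingleton _ (⟨0, h0⟩ : Fin (n - (n - 1)))]
        rfl
      rw [hbot hn] at hmem
      exact hmem
    exact ⟨(Module.Basis.mk hli hg.ge).equivFun⟩

theorem isFT_of_isFP {X : Scheme.{u}} {M : X.Modules} (h : CohB1.IsFP M) : CohB1.IsFT M :=
  haveI : SheafOfModules.IsFinitePresentation (R := X.ringCatSheaf) M := h
  inferInstanceAs (SheafOfModules.IsFiniteType (R := X.ringCatSheaf) M)

section Zero

variable {A B : Type u} [CommRing A] [CommRing B] [Algebra A B] [Algebra.FinitePresentation A B]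

/-- The points at which an element vanishes in the local ring of the fibre. -/
theorem isConstructible_zeroFib (j : B) :
    IsConstructible {q : PrimeSpectrum B | ∃ s ∉ q.asIdeal, s * j ∈ (q.asIdeal.under A).map (algebraMap A B)} := by
  classical
  obtain ⟨m, π, hπ, hker⟩ := Algebra.FinitePresentation.out (R := A) (A := B)
  let P := MvPolynomial (Fin m) A
  obtain ⟨d, g, hg⟩ := Submodule.fg_iff_exists_fin_generating_family.1 hker
  obtain ⟨j, rfl⟩ := hπ j
  let U : Matrix (Fin 1) (Fin 1) P := 1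
  let V : Matrix (Fin 1) (Fin 1) P := Matrix.of fun _ _ => j
  let W : Matrix (Fin 1) (Fin d) P := Matrix.of fun _ l => g l
  have hset : {q : PrimeSpectrum B | ∃ s ∉ q.asIdeal, s * π j ∈ (q.asIdeal.under A).map (algebraMap A B)} =
      PrimeSpectrum.comap π.toRingHom ⁻¹' {r : PrimeSpectrum P | ExAt A U V W r} := by
    ext q
    let r := PrimeSpectrum.comap π.toRingHom q
    have hr : ∀ z, z ∈ r.asIdeal ↔ π z ∈ q.asIdeal := fun z => Iff.rfl
    have hbase : (basePr A r).map π.toRingHom = (q.asIdeal.under A).map (algebraMap A B) := by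
      rw [Ideal.map_map, show π.toRingHom.comp (algebraMap A P) = algebraMap A B from π.comp_algebraMap]
      congr 1
      ext a
      show π (algebraMap A P a) ∈ q.asIdeal ↔ algebraMap A B a ∈ q.asIdeal
      rw [π.commutes]
    have hmem : ∀ z : P, π z ∈ (q.asIdeal.under A).map (algebraMap A B) ↔
        ∃ y : Fin d → P, z - (W *ᵥ y) 0 ∈ basePr A r := fun z => by
      rw [← hbase]
      have hW : ∀ y : Fin d → P, (W *ᵥ y) 0 = ∑ l, y l * g l := fun y => by
        simp [W, Matrix.mulVec, dotProduct, mul_comm]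
      constructor
      · intro hz
        obtain ⟨w, hw, hwz⟩ := (Ideal.mem_map_iff_of_surjective π.toRingHom hπ).1 hz
        have h0 : z - w ∈ Submodule.span P (Set.range g) := by
          rw [hg, RingHom.mem_ker, map_sub]
          exact sub_eq_zero.2 hwz.symm
        obtain ⟨y, hy⟩ := (Submodule.mem_span_range_iff_exists_fun P).1 h0
        refine ⟨y, ?_⟩
        rw [hW, show ∑ l, y l * g l = z - w from hy, sub_sub_cancel]
        exact hw
      · rintro ⟨y, hy⟩
        have h0 : π.toRingHom ((W *ᵥ y) 0) = 0 := by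
          rw [hW, ← RingHom.mem_ker, ← hg]
          exact Submodule.sum_mem _ fun l _ => Submodule.smul_mem _ _ (Submodule.subset_span ⟨l, rfl⟩)
        have h1 := Ideal.mem_map_of_mem π.toRingHom hy
        rw [map_sub, h0, sub_zero] at h1
        exact h1
    show (∃ s ∉ q.asIdeal, s * π j ∈ _) ↔ ExAt A U V W r
    constructor
    · rintro ⟨s, hs, hsj⟩
      obtain ⟨s, rfl⟩ := hπ s
      rw [← map_mul, hmem] at hsj
      obtain ⟨y, hy⟩ := hsj
      intro x
      refine ⟨fun _ => ⟨1, r.isPrime.one_notMem, x, fun i => by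
        rw [Matrix.one_mulVec, one_mul, sub_self]; exact zero_mem _⟩, fun _ => ⟨s, hs, x 0 • y, fun i => ?_⟩⟩
      rw [Subsingleton.elim i 0, Matrix.mulVec_smul, Pi.smul_apply, smul_eq_mul,
        show (V *ᵥ x) 0 = j * x 0 by simp [V, Matrix.mulVec, dotProduct],
        show s * (j * x 0) - x 0 * (W *ᵥ y) 0 = x 0 * (s * j - (W *ᵥ y) 0) by ring]
      exact Ideal.mul_mem_left _ _ hy
    · intro h
      obtain ⟨s, hs, y, hy⟩ := (h fun _ => 1).2 ⟨1, r.isPrime.one_notMem, fun _ => 1, fun i => by
        rw [Matrix.one_mulVec, one_mul, sub_self]; exact zero_mem _⟩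
      refine ⟨π s, hs, ?_⟩
      rw [← map_mul, hmem]
      refine ⟨y, ?_⟩
      have := hy 0
      rwa [show (V *ᵥ fun _ => (1 : P)) 0 = j by simp [V, Matrix.mulVec, dotProduct]] at this
  rw [hset]
  exact CMFlatLib.isConstructible_comap _ (isConstructible_exAt U V W)

end Zero

section Stalk

variable {X Y : Scheme.{u}} (f : X ⟶ Y) (F : X.Modules) [Coh.IsQCoh F]

/-- The fibre of `F` is free of rank `n` at `x`. -/
abbrev FreeFib (n : ℕ) (y : Y) (z : f.fiber y) : Prop :=
  PullbackMod.FreeAt n ((Scheme.Modules.pullback (f.fiberι y)).obj F) z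

variable {F}

theorem freeFib_iff (hF : CohB1.IsFP F) {V : Y.Opens} (hV : IsAffineOpen V) {W : X.Opens} (hW : IsAffineOpen W)
    (hWV : W ≤ f ⁻¹ᵁ V) (y : Y) (z : f.fiber y) (q : PrimeSpectrum Γ(X, W)) (hz : f.fiberι y z = hW.fromSpec q)
    (n : ℕ) :
    letI := (f.appLE V W hWV).hom.toAlgebra
    FreeFib f F n y z ↔ ¬ Fitt.ideal Γ(X, W) Γ(F, W) n ≤ q.asIdeal ∧
      (n ≠ 0 → ∀ j ∈ Fitt.ideal Γ(X, W) Γ(F, W) (n - 1),
        ∃ s ∉ q.asIdeal, s * j ∈ (q.asIdeal.under Γ(Y, V)).map (algebraMap Γ(Y, V) Γ(X, W))) := by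
  letI := (f.appLE V W hWV).hom.toAlgebra
  let B := Γ(X, W)
  let A := Γ(Y, V)
  let x' := f.fiberι y z
  have hx' : x' ∈ W := by
    show f.fiberι y z ∈ W
    rw [hz, ← SetLike.mem_coe, ← hW.range_fromSpec]
    exact ⟨q, rfl⟩
  have hprime' : hW.primeIdealOf ⟨x', hx'⟩ = q :=
    hW.fromSpec.isOpenEmbedding.injective ((hW.fromSpec_primeIdealOf _).trans hz)
  haveI := PullbackMod.isQCoh_pullback (f.fiberι y) F
  have hF' := PullbackMod.isFP_pullback (f.fiberι y) F hF
  let O := X.presheaf.stalk x'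
  let O' := (f.fiber y).presheaf.stalk z
  let N' := ((Scheme.Modules.pullback (f.fiberι y)).obj F).presheaf.stalk z
  haveI : Module.Finite O' N' := PullbackMod.finite_stalk_of_isFT (isFT_of_isFP hF') z
  haveI : Module.Finite O (F.presheaf.stalk x') := PullbackMod.finite_stalk_of_isFT (isFT_of_isFP hF) x'
  letI : Algebra B O := TopCat.Presheaf.algebra_section_stalk X.presheaf ⟨x', hx'⟩
  haveI : IsLocalization.AtPrime O q.asIdeal := by
    have h := hW.isLocalization_stalk ⟨x', hx'⟩
    rwa [hprime'] at h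
  letI : Algebra O O' := ((f.fiberι y).stalkMap z).hom.toAlgebra
  letI := Module.compHom N' ((f.fiberι y).stalkMap z).hom
  haveI : IsScalarTower O O' N' := .of_algebraMap_smul fun _ _ => rfl
  let ψ : B →+* O' := ((f.fiberι y).stalkMap z).hom.comp (X.presheaf.germ W x' hx').hom
  have hfitt : ∀ k, (Fitt.ideal B Γ(F, W) k).map ψ = Fitt.ideal O' N' k := fun k => by
    rw [← Ideal.map_map, FittSheafLib.stalk_fitt F (isFT_of_isFP hF) k hW x' hx']
    exact FittSheafLib.fitt_map_of_isBaseChange _ (PullbackMod.isBaseChange_pullStalkL (f.fiberι y) F z) k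
  have hunit : ∀ j : B, IsUnit (ψ j) ↔ j ∉ q.asIdeal := fun j => by
    show IsUnit (((f.fiberι y).stalkMap z) (algebraMap B O j)) ↔ _
    rw [isUnit_map_iff, IsLocalization.AtPrime.isUnit_to_map_iff O q.asIdeal]
    rfl
  have hzero : ∀ j : B, ψ j = 0 ↔ ∃ s ∉ q.asIdeal, s * j ∈ (q.asIdeal.under A).map (algebraMap A B) := fun j => by
    have hyV : f.base x' ∈ V := hWV hx'
    letI := TopCat.Presheaf.algebra_section_stalk Y.presheaf ⟨f.base x', hyV⟩
    haveI := hV.isLocalization_stalk ⟨f.base x', hyV⟩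
    have hpr : (hV.primeIdealOf ⟨f.base x', hyV⟩).asIdeal = q.asIdeal.under A := by
      rw [← congr($(IsAffineOpen.comap_primeIdealOf_appLE V hV W hW hWV hx').1), hprime']
      rfl
    have hk : RingHom.ker ((f.fiberι y).stalkMap z).hom =
        ((q.asIdeal.under A).map (algebraMap A B)).map (algebraMap B O) := by
      refine (FlatLocus.ker_fiberι_stalkMap f y z).trans ?_
      show fibreIdeal f x' = _
      rw [fibreIdeal, ← IsLocalization.AtPrime.map_eq_maximalIdeal (hV.primeIdealOf ⟨f.base x', hyV⟩).asIdeal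
        (Y.presheaf.stalk (f.base x')), Ideal.map_map, hpr, Ideal.map_map]
      congr 1
      ext r
      show (f.stalkMap x') (Y.presheaf.germ V (f.base x') hyV r) = X.presheaf.germ W x' hx' (f.appLE V W hWV r)
      rw [Scheme.Hom.germ_stalkMap_apply, Scheme.Hom.appLE, CommRingCat.comp_apply, X.presheaf.germ_res_apply]
    show algebraMap B O j ∈ RingHom.ker ((f.fiberι y).stalkMap z).hom ↔ _
    rw [hk, IsLocalization.algebraMap_mem_map_algebraMap_iff q.asIdeal.primeCompl O]
    rfl
  unfold FreeFib PullbackMod.FreeAt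
  rw [nonempty_basis_iff, ← hfitt, ← hfitt]
  refine and_congr ?_ (imp_congr_right fun _ => ?_)
  · constructor
    · intro h hle
      refine (IsLocalRing.maximalIdeal.isMaximal O').ne_top (top_le_iff.1 (h ▸ ?_))
      rw [Ideal.map_le_iff_le_comap]
      exact fun j hj hu => (hunit j).1 hu (hle hj)
    · intro h
      obtain ⟨j, hj, hjq⟩ := SetLike.not_le_iff_exists.1 h
      exact Ideal.eq_top_of_isUnit_mem _ (Ideal.mem_map_of_mem ψ hj) ((hunit j).2 hjq)
  · rw [Ideal.map_eq_bot_iff_le_ker]
    exact forall₂_congr fun j _ => hzero j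

/-- The locus where the fibre is free of rank `n`, read on an affine chart. -/
theorem isConstructible_freeFib_affine [LocallyOfFinitePresentation f] (hF : CohB1.IsFP F) {V : Y.Opens}
    (hV : IsAffineOpen V) {W : X.Opens} (hW : IsAffineOpen W) (hWV : W ≤ f ⁻¹ᵁ V) :
    (∀ n, IsConstructible {q : PrimeSpectrum Γ(X, W) |
      FreeFib f F n (f.base (hW.fromSpec q)) (f.asFiber (hW.fromSpec q))}) ∧
    IsConstructible {q : PrimeSpectrum Γ(X, W) |
      ∃ n, FreeFib f F n (f.base (hW.fromSpec q)) (f.asFiber (hW.fromSpec q))} := by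
  classical
  haveI := QCohLib.finitePresentation_sections F hF hW
  have hfp := f.finitePresentation_appLE hV hW hWV
  algebraize [(f.appLE V W hWV).hom]
  let B := Γ(X, W)
  let A := Γ(Y, V)
  let J := fun k => Fitt.ideal B Γ(F, W) k
  have hJ : ∀ k, (J k).FG := fun k => (S6892.result (R := B) Γ(F, W) Γ(F, W) k).2.1 inferInstance
  let Z := fun j : B => {q : PrimeSpectrum B | ∃ s ∉ q.asIdeal, s * j ∈ (q.asIdeal.under A).map (algebraMap A B)}
  have hiff : ∀ (q : PrimeSpectrum B) (n : ℕ),
      FreeFib f F n (f.base (hW.fromSpec q)) (f.asFiber (hW.fromSpec q)) ↔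
        ¬ J n ≤ q.asIdeal ∧ (n ≠ 0 → ∀ j ∈ J (n - 1), q ∈ Z j) := fun q n =>
    freeFib_iff f hF hV hW hWV _ _ q (f.fiberι_asFiber _) n
  have hn : ∀ n, IsConstructible {q : PrimeSpectrum B |
      FreeFib f F n (f.base (hW.fromSpec q)) (f.asFiber (hW.fromSpec q))} := by
    intro n
    obtain ⟨T, hT⟩ := hJ (n - 1)
    have hset : {q : PrimeSpectrum B | FreeFib f F n (f.base (hW.fromSpec q)) (f.asFiber (hW.fromSpec q))} =
        (PrimeSpectrum.zeroLocus (J n : Set B))ᶜ ∩ ⋂ j ∈ (if n = 0 then (∅ : Finset B) else T : Finset B), Z j := by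
      ext q
      simp only [Set.mem_ofPred_eq, hiff, Set.mem_inter_iff, Set.mem_compl_iff, PrimeSpectrum.mem_zeroLocus,
        SetLike.coe_subset_coe, Set.mem_iInter₂]
      refine and_congr_right fun _ => ?_
      by_cases h0 : n = 0
      · simp [h0]
      · simp only [h0, ne_eq, not_false_iff, forall_const, if_false]
        refine ⟨fun h j hj => h j (hT.le (Submodule.subset_span hj)), fun h j hj => ?_⟩
        have hj' : j ∈ Submodule.span B (T : Set B) := hT.ge hj
        clear hj
        induction hj' using Submodule.span_induction with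
        | mem j hj => exact h j hj
        | zero => exact ⟨1, q.isPrime.one_notMem, by simp⟩
        | add a b _ _ ha hb =>
          obtain ⟨s, hs, hsa⟩ := ha
          obtain ⟨t, ht, htb⟩ := hb
          refine ⟨s * t, fun hh => (q.isPrime.mem_or_mem hh).elim hs ht, ?_⟩
          rw [mul_add, show s * t * a = t * (s * a) by ring, show s * t * b = s * (t * b) by ring]
          exact add_mem (Ideal.mul_mem_left _ _ hsa) (Ideal.mul_mem_left _ _ htb)
        | smul c a _ ha =>
          obtain ⟨s, hs, hsa⟩ := ha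
          refine ⟨s, hs, ?_⟩
          rw [smul_eq_mul, mul_left_comm]
          exact Ideal.mul_mem_left _ _ hsa
    rw [hset]
    refine IsConstructible.inter ?_ (IsConstructible.biInter (Finset.finite_toSet _) fun j _ => isConstructible_zeroFib j)
    exact (isConstructible_compl (s := PrimeSpectrum.zeroLocus (J n : Set B))).2
      (FibreDepth.isConstructible_zeroLocus_of_fg (hJ n))
  refine ⟨hn, ?_⟩
  obtain ⟨N, x, hx⟩ := Module.Finite.exists_fin (R := B) (M := Γ(F, W))
  have hbound : ∀ (q : PrimeSpectrum B) (n : ℕ),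
      FreeFib f F n (f.base (hW.fromSpec q)) (f.asFiber (hW.fromSpec q)) → n ≤ N := by
    intro q n h
    by_contra hne
    obtain ⟨s, hs, hs1⟩ := ((hiff q n).1 h).2 (by omega) 1
      (by
        show (1 : B) ∈ Fitt.ideal B Γ(F, W) (n - 1)
        rw [FittLib.ideal_eq_top x hx (by omega)]
        exact Submodule.mem_top)
    rw [mul_one] at hs1
    exact hs ((Ideal.map_le_iff_le_comap.2 le_rfl) hs1)
  convert IsConstructible.biUnion (Set.finite_le_nat N) (fun n (_ : n ∈ {n | n ≤ N}) => hn n) using 1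
  ext q
  simp only [Set.mem_ofPred_eq, Set.mem_iUnion, exists_prop]
  exact ⟨fun ⟨n, h⟩ => ⟨n, hbound q n h, h⟩, fun ⟨n, _, h⟩ => ⟨n, h⟩⟩

theorem isLocallyConstructible_freeFib [LocallyOfFinitePresentation f] (hF : CohB1.IsFP F) :
    (∀ n, IsLocallyConstructible {x : X | FreeFib f F n (f.base x) (f.asFiber x)}) ∧
      IsLocallyConstructible {x : X | ∃ n, FreeFib f F n (f.base x) (f.asFiber x)} := by
  have hchart : ∀ x : X, ∃ (V : Y.Opens) (_ : IsAffineOpen V) (W : X.Opens) (hW : IsAffineOpen W)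
      (_ : W ≤ f ⁻¹ᵁ V), x ∈ Set.range hW.fromSpec := fun x => by
    obtain ⟨_, ⟨V : Y.Opens, (hV : IsAffineOpen V), rfl⟩, hxV, -⟩ :=
      Y.isBasis_affineOpens.exists_subset_of_mem_open (Set.mem_univ (f x)) isOpen_univ
    obtain ⟨_, ⟨W : X.Opens, (hW : IsAffineOpen W), rfl⟩, hxW, hWV⟩ :=
      X.isBasis_affineOpens.exists_subset_of_mem_open (a := x) (u := ↑(f ⁻¹ᵁ V)) hxV (f ⁻¹ᵁ V).2
    exact ⟨V, hV, W, hW, hWV, by rw [hW.range_fromSpec]; exact hxW⟩
  refine ⟨fun n => ?_, ?_⟩
  · refine isLocallyConstructible_of_embeddings _ fun x => ?_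
    obtain ⟨V, hV, W, hW, hWV, hx⟩ := hchart x
    exact ⟨Γ(X, W), inferInstance, hW.fromSpec, hW.fromSpec.isOpenEmbedding, hx,
      (isConstructible_freeFib_affine f hF hV hW hWV).1 n⟩
  · refine isLocallyConstructible_of_embeddings _ fun x => ?_
    obtain ⟨V, hV, W, hW, hWV, hx⟩ := hchart x
    exact ⟨Γ(X, W), inferInstance, hW.fromSpec, hW.fromSpec.isOpenEmbedding, hx,
      (isConstructible_freeFib_affine f hF hV hW hWV).2⟩

theorem isLocallyConstructible_isFinLocFree [LocallyOfFinitePresentation f] [QuasiCompact f]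
    (hF : CohB1.IsFP F) :
    IsLocallyConstructible {s : Y | FlatMod.IsFinLocFree ((Scheme.Modules.pullback (f.fiberι s)).obj F)} := by
  have h := GeomRk.isLocallyConstructible_forall_fiber f (fun y z => ∃ n, FreeFib f F n y z)
    (isLocallyConstructible_freeFib f hF).2
  convert h using 1
  ext s
  haveI := PullbackMod.isQCoh_pullback (f.fiberι s) F
  exact PullbackMod.isFinLocFree_iff_freeAt _ (PullbackMod.isFP_pullback (f.fiberι s) F hF)

theorem isLocallyConstructible_isFinLocFreeOfRank [LocallyOfFinitePresentation f] [QuasiCompact f]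
    (hF : CohB1.IsFP F) (n : ℕ) :
    IsLocallyConstructible {s : Y | FlatMod.IsFinLocFreeOfRank n ((Scheme.Modules.pullback (f.fiberι s)).obj F)} := by
  have h := GeomRk.isLocallyConstructible_forall_fiber f (fun y z => FreeFib f F n y z)
    ((isLocallyConstructible_freeFib f hF).1 n)
  convert h using 1
  ext s
  haveI := PullbackMod.isQCoh_pullback (f.fiberι s) F
  exact PullbackMod.isFinLocFreeOfRank_iff_freeAt _ (PullbackMod.isFP_pullback (f.fiberι s) F hF) n

end Stalk

end Groth.Agent.ExactConstrLib
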