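import Groth.Agent.ExactConstrLib.Stratum
import Groth.Agent.FlatLocus.Descent
import Groth.Agent.CMFlatLib.Constructible

/-!
Constructibility of pointwise exactness of fibres over affine space.
-/

set_option autoImplicit false
set_option linter.style.haveILetI false
universe u

open MvPolynomial Topology Matrix TensorProduct

noncomputable section

namespace Groth.Agent.ExactConstrLib

open FibreDepth

variable {m a b c d : ℕ}

attribute [local instance] MvPolynomial.algebraMvPolynomial

/-- Exactness at a point is stable under base change of affine space. -/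
theorem exAt_map {A A' : Type u} [CommRing A] [CommRing A'] [Algebra A A']
    (U : Matrix (Fin b) (Fin a) (MvPolynomial (Fin m) A)) (V : Matrix (Fin c) (Fin b) (MvPolynomial (Fin m) A))
    (W : Matrix (Fin c) (Fin d) (MvPolynomial (Fin m) A)) (r : PrimeSpectrum (MvPolynomial (Fin m) A')) :
    ExAt A' (U.map (MvPolynomial.map (algebraMap A A'))) (V.map (MvPolynomial.map (algebraMap A A')))
        (W.map (MvPolynomial.map (algebraMap A A'))) r ↔
      ExAt A U V W (PrimeSpectrum.comap (MvPolynomial.map (algebraMap A A')) r) :=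
  exAt_baseChange (A := A) (A' := A') (P := MvPolynomial (Fin m) A) (P' := MvPolynomial (Fin m) A') U V W r

variable {A : Type u} [CommRing A]

theorem isConstructible_exAt_of_noetherian [IsNoetherianRing A]
    (U : Matrix (Fin b) (Fin a) (MvPolynomial (Fin m) A)) (V : Matrix (Fin c) (Fin b) (MvPolynomial (Fin m) A))
    (W : Matrix (Fin c) (Fin d) (MvPolynomial (Fin m) A)) :
    IsConstructible {r : PrimeSpectrum (MvPolynomial (Fin m) A) | ExAt A U V W r} := by
  let E := {r : PrimeSpectrum (MvPolynomial (Fin m) A) | ExAt A U V W r}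
  suffices h : ∀ I : Ideal A, IsConstructible (E ∩
      {r : PrimeSpectrum (MvPolynomial (Fin m) A) | I ≤ basePrime A r}) by
    simpa [E, Set.inter_univ] using h ⊥
  intro I
  induction I using WellFoundedGT.induction with
  | _ I ih =>
    by_cases hI : I.IsPrime
    · haveI := hI
      haveI : IsDomain (A ⧸ I) := Ideal.Quotient.isDomain I
      let Φ : MvPolynomial (Fin m) A →+* MvPolynomial (Fin m) (A ⧸ I) :=
        MvPolynomial.map (algebraMap A (A ⧸ I))
      have hΦ : Function.Surjective Φ := MvPolynomial.map_surjective _ Ideal.Quotient.mk_surjective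
      obtain ⟨g, hg, hopen, -⟩ := exists_stratum (A := A ⧸ I) (U.map Φ) (V.map Φ) (W.map Φ)
      obtain ⟨f, rfl⟩ := Ideal.Quotient.mk_surjective g
      have hf : f ∉ I := fun h => hg (Ideal.Quotient.eq_zero_iff_mem.2 h)
      have hker : ∀ r : PrimeSpectrum (MvPolynomial (Fin m) A), RingHom.ker Φ ≤ r.asIdeal ↔ I ≤ basePrime A r := by
        intro r
        rw [show RingHom.ker Φ = I.map (C : A →+* MvPolynomial (Fin m) A) by
          rw [MvPolynomial.ker_map, Ideal.Quotient.algebraMap_eq, Ideal.mk_ker]]
        exact Ideal.map_le_iff_le_comap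
      have hfp : Φ.FinitePresentation := by
        refine RingHom.FinitePresentation.of_finiteType.1 ?_
        exact RingHom.FiniteType.of_surjective Φ hΦ
      have hc : IsConstructible {r : PrimeSpectrum (MvPolynomial (Fin m) (A ⧸ I)) |
          Ideal.Quotient.mk I f ∉ basePrime (A ⧸ I) r ∧ ExAt (A ⧸ I) (U.map Φ) (V.map Φ) (W.map Φ) r} :=
        (IsCompact.isRetrocompact (TopologicalSpace.NoetherianSpace.isCompact _) hopen).isConstructible hopen
      have himg := PrimeSpectrum.isConstructible_comap_image hfp hc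
      have hlt : I < I ⊔ Ideal.span {f} := lt_of_le_of_ne le_sup_left fun h =>
        hf (h ▸ Ideal.mem_sup_right (Ideal.mem_span_singleton_self f))
      have hbase : ∀ r : PrimeSpectrum (MvPolynomial (Fin m) (A ⧸ I)),
          Ideal.Quotient.mk I f ∈ basePrime (A ⧸ I) r ↔ f ∈ basePrime A (PrimeSpectrum.comap Φ r) := fun r => by
        show C (Ideal.Quotient.mk I f) ∈ r.asIdeal ↔ Φ (C f) ∈ r.asIdeal
        rw [show Φ (C f) = C (algebraMap A (A ⧸ I) f) from map_C _ _]
        rfl
      convert himg.union (ih _ hlt) using 1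
      ext r
      simp only [Set.mem_inter_iff, Set.mem_union, Set.mem_image, Set.mem_ofPred_eq, sup_le_iff,
        Ideal.span_singleton_le_iff_mem]
      constructor
      · rintro ⟨hE, hIr⟩
        by_cases hfr : f ∈ basePrime A r
        · exact Or.inr ⟨hE, hIr, hfr⟩
        · obtain ⟨r', rfl⟩ : r ∈ Set.range (PrimeSpectrum.comap Φ) := by
            rw [range_comap_of_surjective _ Φ hΦ]
            exact (hker r).2 hIr
          exact Or.inl ⟨r', ⟨fun h => hfr ((hbase r').1 h), (exAt_map U V W r').2 hE⟩, rfl⟩
      · rintro (⟨r', ⟨hfr', hE⟩, rfl⟩ | ⟨hE, hIr, -⟩)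
        · exact ⟨(exAt_map U V W r').1 hE, (hker _).1 (fun z hz => by
            change Φ z ∈ r'.asIdeal
            rw [RingHom.mem_ker.1 hz]
            exact zero_mem _)⟩
        · exact ⟨hE, hIr⟩
    · have hset : E ∩ {r : PrimeSpectrum (MvPolynomial (Fin m) A) | I ≤ basePrime A r} =
          ⋃ p ∈ I.minimalPrimes, E ∩ {r : PrimeSpectrum (MvPolynomial (Fin m) A) | p ≤ basePrime A r} := by
        ext q
        simp only [Set.mem_iUnion, Set.mem_inter_iff, Set.mem_ofPred_eq, exists_prop]
        constructor
        · rintro ⟨hq, hIq⟩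
          obtain ⟨p, hp, hpq⟩ := Ideal.exists_minimalPrimes_le hIq
          exact ⟨p, hp, hq, hpq⟩
        · rintro ⟨p, hp, hq, hpq⟩
          exact ⟨hq, hp.1.2.trans hpq⟩
      rw [hset]
      exact IsConstructible.biUnion (Ideal.finite_minimalPrimes_of_isNoetherianRing A I) fun p hp =>
        ih p (lt_of_le_of_ne hp.1.2 fun h => hI (h ▸ hp.1.1))

/-- Finitely many polynomial matrices are defined over a finitely generated subring. -/
theorem exists_base_matrices (U : Matrix (Fin b) (Fin a) (MvPolynomial (Fin m) A))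
    (V : Matrix (Fin c) (Fin b) (MvPolynomial (Fin m) A)) (W : Matrix (Fin c) (Fin d) (MvPolynomial (Fin m) A)) :
    ∃ (S : Subalgebra ℤ A), IsNoetherianRing S ∧
      ∃ (U₀ : Matrix (Fin b) (Fin a) (MvPolynomial (Fin m) S)) (V₀ : Matrix (Fin c) (Fin b) (MvPolynomial (Fin m) S))
        (W₀ : Matrix (Fin c) (Fin d) (MvPolynomial (Fin m) S)),
        U₀.map (MvPolynomial.map (algebraMap S A)) = U ∧ V₀.map (MvPolynomial.map (algebraMap S A)) = V ∧
          W₀.map (MvPolynomial.map (algebraMap S A)) = W := by
  classical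
  let cs : Finset A := (Finset.univ.biUnion fun q : Fin b × Fin a => (U q.1 q.2).support.image fun k => coeff k (U q.1 q.2)) ∪
    (Finset.univ.biUnion fun q : Fin c × Fin b => (V q.1 q.2).support.image fun k => coeff k (V q.1 q.2)) ∪
    (Finset.univ.biUnion fun q : Fin c × Fin d => (W q.1 q.2).support.image fun k => coeff k (W q.1 q.2))
  let S : Subalgebra ℤ A := Algebra.adjoin ℤ (cs : Set A)
  haveI hS : IsNoetherianRing S := isNoetherianRing_of_fg (Subalgebra.fg_adjoin_finset cs)
  have hmem : ∀ (p : MvPolynomial (Fin m) A), (p.support.image fun k => coeff k p) ⊆ cs →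
      ∃ p₀, MvPolynomial.map (algebraMap S A) p₀ = p := fun p hp => by
    have h : ∀ k, coeff k p ∈ S := fun k => by
      by_cases hk : k ∈ p.support
      · exact Algebra.subset_adjoin (hp (Finset.mem_image_of_mem _ hk))
      · rw [MvPolynomial.notMem_support_iff.1 hk]; exact S.zero_mem
    refine ⟨∑ k ∈ p.support, monomial k (⟨coeff k p, h k⟩ : S), ?_⟩
    rw [map_sum]
    simp only [map_monomial]
    exact p.as_sum.symm
  choose U₀ hU using fun i j => hmem (U i j) fun x hx => Finset.mem_union_left _ (Finset.mem_union_left _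
    (Finset.mem_biUnion.2 ⟨(i, j), Finset.mem_univ _, hx⟩))
  choose V₀ hV using fun i j => hmem (V i j) fun x hx => Finset.mem_union_left _ (Finset.mem_union_right _
    (Finset.mem_biUnion.2 ⟨(i, j), Finset.mem_univ _, hx⟩))
  choose W₀ hW using fun i j => hmem (W i j) fun x hx => Finset.mem_union_right _
    (Finset.mem_biUnion.2 ⟨(i, j), Finset.mem_univ _, hx⟩)
  exact ⟨S, hS, Matrix.of U₀, Matrix.of V₀, Matrix.of W₀, Matrix.ext hU, Matrix.ext hV, Matrix.ext hW⟩

theorem isConstructible_exAt (U : Matrix (Fin b) (Fin a) (MvPolynomial (Fin m) A))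
    (V : Matrix (Fin c) (Fin b) (MvPolynomial (Fin m) A)) (W : Matrix (Fin c) (Fin d) (MvPolynomial (Fin m) A)) :
    IsConstructible {r : PrimeSpectrum (MvPolynomial (Fin m) A) | ExAt A U V W r} := by
  obtain ⟨S, hS, U₀, V₀, W₀, rfl, rfl, rfl⟩ := exists_base_matrices U V W
  haveI := hS
  rw [show {r : PrimeSpectrum (MvPolynomial (Fin m) A) | ExAt A (U₀.map (MvPolynomial.map (algebraMap S A)))
      (V₀.map (MvPolynomial.map (algebraMap S A))) (W₀.map (MvPolynomial.map (algebraMap S A))) r} =
      PrimeSpectrum.comap (MvPolynomial.map (algebraMap S A)) ⁻¹' {r | ExAt S U₀ V₀ W₀ r} from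
    Set.ext fun r => exAt_map U₀ V₀ W₀ r]
  exact CMFlatLib.isConstructible_comap _ (isConstructible_exAt_of_noetherian U₀ V₀ W₀)

theorem basePrime_map {A' : Type u} [CommRing A'] [Algebra A A'] (r : PrimeSpectrum (MvPolynomial (Fin m) A')) :
    basePrime A (PrimeSpectrum.comap (MvPolynomial.map (algebraMap A A')) r) =
      (basePrime A' r).comap (algebraMap A A') := by
  ext x
  show MvPolynomial.map (algebraMap A A') (C x) ∈ r.asIdeal ↔ C (algebraMap A A' x) ∈ r.asIdeal
  rw [map_C]

/-- Two extensions of a field lie in a common field. -/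
theorem exists_common_field {K E F : Type u} [Field K] [Field E] [Field F] [Algebra K E] [Algebra K F] :
    ∃ (L : Type u) (_ : Field L) (ψE : E →+* L) (ψF : F →+* L), ∀ k, ψE (algebraMap K E k) = ψF (algebraMap K F k) := by
  have hinj := Algebra.TensorProduct.includeLeft_injective (R := K) (A := E) (B := F) (S := K) (algebraMap K F).injective
  haveI : Nontrivial (E ⊗[K] F) := hinj.nontrivial
  obtain ⟨M, hM⟩ := Ideal.exists_maximal (E ⊗[K] F)
  haveI := hM
  refine ⟨(E ⊗[K] F) ⧸ M, Ideal.Quotient.field M,
    (Ideal.Quotient.mk M).comp Algebra.TensorProduct.includeLeftRingHom,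
    (Ideal.Quotient.mk M).comp (Algebra.TensorProduct.includeRight : F →ₐ[K] _).toRingHom, fun k => congrArg (Ideal.Quotient.mk M) ?_⟩
  exact Algebra.TensorProduct.tmul_one_eq_one_tmul k

/-- Over a domain, fibres exact over the generic point are exact over a dense open set. -/
theorem exists_forall_exAt [IsDomain A] (U : Matrix (Fin b) (Fin a) (MvPolynomial (Fin m) A))
    (V : Matrix (Fin c) (Fin b) (MvPolynomial (Fin m) A)) (W : Matrix (Fin c) (Fin d) (MvPolynomial (Fin m) A))
    (hgen : ∀ r, basePrime A r = ⊥ → ExAt A U V W r) :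
    ∃ f : A, f ≠ 0 ∧ ∀ r, f ∉ basePrime A r → ExAt A U V W r := by
  obtain ⟨S, hS, U₀, V₀, W₀, rfl, rfl, rfl⟩ := exists_base_matrices U V W
  haveI := hS
  have hinj : Function.Injective (algebraMap S A) := Subtype.coe_injective
  obtain ⟨g, -, -, hg⟩ := exists_stratum (A := S) U₀ V₀ W₀
  obtain ⟨e, he, hee⟩ := hg fun r₀ hr₀ => by
    -- lift the point to the generic fibre over `A`
    let κ := r₀.asIdeal.ResidueField
    let χ : MvPolynomial (Fin m) S →+* κ := algebraMap _ _
    have hSκ : Function.Injective (χ.comp C) := by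
      rw [injective_iff_map_eq_zero]
      intro z hz
      have : z ∈ basePrime S r₀ := show C z ∈ r₀.asIdeal from Ideal.algebraMap_residueField_eq_zero.1 hz
      rw [hr₀] at this
      exact this
    letI : Algebra S κ := (χ.comp C).toAlgebra
    haveI : FaithfulSMul S κ := (faithfulSMul_iff_algebraMap_injective S κ).2 hSκ
    haveI : FaithfulSMul S (FractionRing A) := (faithfulSMul_iff_algebraMap_injective S (FractionRing A)).2
      ((IsFractionRing.injective A (FractionRing A)).comp hinj)
    let K₀ := FractionRing S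
    letI : Algebra K₀ κ := FractionRing.liftAlgebra S κ
    letI : Algebra K₀ (FractionRing A) := FractionRing.liftAlgebra S (FractionRing A)
    haveI : IsScalarTower S K₀ κ := FractionRing.isScalarTower_liftAlgebra S κ
    haveI : IsScalarTower S K₀ (FractionRing A) := FractionRing.isScalarTower_liftAlgebra S (FractionRing A)
    obtain ⟨L, _, ψA, ακ, hψ⟩ := exists_common_field (K := K₀) (E := FractionRing A) (F := κ)
    let αA : A →+* L := ψA.comp (algebraMap A (FractionRing A))
    let Φ : MvPolynomial (Fin m) A →+* L := eval₂Hom αA fun i => ακ (χ (X i))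
    haveI : (RingHom.ker Φ).IsPrime := RingHom.ker_isPrime Φ
    let r : PrimeSpectrum (MvPolynomial (Fin m) A) := ⟨RingHom.ker Φ, inferInstance⟩
    have hcomp : Φ.comp (MvPolynomial.map (algebraMap S A)) = ακ.comp χ := by
      refine MvPolynomial.ringHom_ext (fun z => ?_) fun i => ?_
      · simp only [RingHom.comp_apply, map_C, Φ, eval₂Hom_C]
        show ψA (algebraMap A (FractionRing A) (algebraMap S A z)) = ακ (χ (C z))
        rw [← IsScalarTower.algebraMap_apply S A (FractionRing A),
          IsScalarTower.algebraMap_apply S K₀ (FractionRing A), hψ, ← IsScalarTower.algebraMap_apply S K₀ κ]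
        rfl
      · simp [Φ]
    have hr : PrimeSpectrum.comap (MvPolynomial.map (algebraMap S A)) r = r₀ := by
      refine PrimeSpectrum.ext (Ideal.ext fun z => ?_)
      show Φ (MvPolynomial.map (algebraMap S A) z) = 0 ↔ _
      rw [show Φ (MvPolynomial.map (algebraMap S A) z) = ακ (χ z) from RingHom.congr_fun hcomp z,
        map_eq_zero_iff _ ακ.injective]
      exact Ideal.algebraMap_residueField_eq_zero
    have hbot : basePrime A r = ⊥ := by
      refine le_bot_iff.1 fun z hz => ?_
      have h1 : αA z = 0 := by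
        have : Φ (C z) = 0 := hz
        simpa [Φ] using this
      exact (map_eq_zero_iff (algebraMap A (FractionRing A)) (IsFractionRing.injective A (FractionRing A))).1
        ((map_eq_zero_iff ψA ψA.injective).1 h1)
    rw [← hr]
    exact (exAt_map U₀ V₀ W₀ r).1 (hgen r hbot)
  refine ⟨algebraMap S A e, fun h => he (hinj (h.trans (map_zero _).symm)), fun r hr => ?_⟩
  refine (exAt_map U₀ V₀ W₀ r).2 (hee _ fun h => hr ?_)
  rw [basePrime_map] at h
  exact h

end Groth.Agent.ExactConstrLib
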