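import Groth.Agent.ExactConstrLib.MatExact
import Groth.Agent.FibreDepth.BaseChange
import Groth.Agent.FibreDepth.Sk

/-!
Pointwise exactness of the fibres of sequences given by matrices.
-/

set_option autoImplicit false
set_option linter.style.haveILetI false
universe u

open Matrix TensorProduct

noncomputable section

namespace Groth.Agent.ExactConstrLib

open FibreDepth

attribute [local instance] Algebra.TensorProduct.rightAlgebra

variable {A P : Type u} [CommRing A] [CommRing P] [Algebra A P] {a b c d : ℕ}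

/-- The extended prime of the base. -/
abbrev basePr (A : Type u) [CommRing A] {P : Type u} [CommRing P] [Algebra A P] (r : PrimeSpectrum P) : Ideal P :=
  (basePrime A r).map (algebraMap A P)

/-- `x` lies in the image of `M` in the fibre at `r`. -/
def NearRange (A : Type u) [CommRing A] {P : Type u} [CommRing P] [Algebra A P] {m n : ℕ} (r : PrimeSpectrum P)
    (M : Matrix (Fin m) (Fin n) P) (x : Fin m → P) : Prop :=
  ∃ s ∉ r.asIdeal, ∃ y, ∀ i, s * x i - (M *ᵥ y) i ∈ basePr A r

/-- The fibres of the sequence are exact at `r`. -/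
def ExAt (A : Type u) [CommRing A] {P : Type u} [CommRing P] [Algebra A P] (U : Matrix (Fin b) (Fin a) P)
    (V : Matrix (Fin c) (Fin b) P) (W : Matrix (Fin c) (Fin d) P) (r : PrimeSpectrum P) : Prop :=
  ∀ x : Fin b → P, NearRange A r W (V *ᵥ x) ↔ NearRange A r U x

/-- `φ` exhibits its target as the local ring of the fibre at `r`. -/
structure IsFibLoc (A : Type u) [CommRing A] {P : Type u} [CommRing P] [Algebra A P] (r : PrimeSpectrum P)
    {L : Type u} [CommRing L] (φ : P →+* L) : Prop where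
  unit : ∀ s ∉ r.asIdeal, IsUnit (φ s)
  surj : ∀ l : L, ∃ s ∉ r.asIdeal, ∃ x, φ s * l = φ x
  ker : ∀ x, φ x = 0 ↔ ∃ s ∉ r.asIdeal, s * x ∈ basePr A r

namespace IsFibLoc

variable {r : PrimeSpectrum P} {L : Type u} [CommRing L] {φ : P →+* L} (hφ : IsFibLoc A r φ)

include hφ

theorem exists_vec {n : ℕ} (l : Fin n → L) : ∃ s ∉ r.asIdeal, ∃ x : Fin n → P, ∀ i, φ s * l i = φ (x i) := by
  classical
  choose s hs x hx using fun i => hφ.surj (l i)
  refine ⟨∏ i, s i, fun h => ?_, fun i => (∏ j ∈ Finset.univ.erase i, s j) * x i, fun i => ?_⟩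
  · obtain ⟨i, -, hi⟩ := r.isPrime.prod_mem_iff.1 h
    exact hs i hi
  · rw [← Finset.mul_prod_erase _ _ (Finset.mem_univ i), map_mul, map_mul, ← hx]
    ring

theorem exists_ker {n : ℕ} (x : Fin n → P) (h : ∀ i, φ (x i) = 0) :
    ∃ s ∉ r.asIdeal, ∀ i, s * x i ∈ basePr A r := by
  classical
  choose s hs hx using fun i => (hφ.ker _).1 (h i)
  refine ⟨∏ i, s i, fun h => ?_, fun i => ?_⟩
  · obtain ⟨i, -, hi⟩ := r.isPrime.prod_mem_iff.1 h
    exact hs i hi
  · rw [← Finset.prod_erase_mul _ _ (Finset.mem_univ i), mul_assoc]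
    exact Ideal.mul_mem_left _ _ (hx i)

theorem map_eq_zero {x : P} (h : x ∈ basePr A r) : φ x = 0 :=
  (hφ.ker x).2 ⟨1, r.isPrime.one_notMem, by rwa [one_mul]⟩

theorem range_iff {m n : ℕ} (M : Matrix (Fin m) (Fin n) P) (x : Fin m → P) :
    (∃ y, (fun i => φ (x i)) = M.map φ *ᵥ y) ↔ NearRange A r M x := by
  constructor
  · rintro ⟨y, hy⟩
    obtain ⟨s, hs, z, hz⟩ := hφ.exists_vec y
    have h0 : ∀ i, φ (s * x i - (M *ᵥ z) i) = 0 := fun i => by
      rw [map_sub, map_mul, sub_eq_zero, show φ (x i) = (M.map φ *ᵥ y) i from congrFun hy i,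
        RingHom.map_mulVec, show φ ∘ z = φ s • y from funext fun j => (hz j).symm, Matrix.mulVec_smul]
      rfl
    obtain ⟨t, ht, htx⟩ := hφ.exists_ker _ h0
    refine ⟨t * s, fun h => (r.isPrime.mem_or_mem h).elim ht hs, t • z, fun i => ?_⟩
    rw [Matrix.mulVec_smul, Pi.smul_apply, smul_eq_mul, mul_assoc, ← mul_sub]
    exact htx i
  · rintro ⟨s, hs, z, hz⟩
    refine ⟨(↑(hφ.unit s hs).unit⁻¹ : L) • fun j => φ (z j), ?_⟩
    funext i
    rw [Matrix.mulVec_smul, Pi.smul_apply, smul_eq_mul,
      show (M.map φ *ᵥ fun j => φ (z j)) i = φ ((M *ᵥ z) i) from (RingHom.map_mulVec φ M z i).symm,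
      ← (sub_eq_zero.1 ((map_sub φ _ _).symm.trans (hφ.map_eq_zero (hz i)))), map_mul, ← mul_assoc,
      IsUnit.val_inv_mul, one_mul]

theorem mex_iff (U : Matrix (Fin b) (Fin a) P) (V : Matrix (Fin c) (Fin b) P) (W : Matrix (Fin c) (Fin d) P) :
    MEx U V W φ ↔ ExAt A U V W r := by
  have hV : ∀ x : Fin b → P, (fun i => φ ((V *ᵥ x) i)) = V.map φ *ᵥ fun i => φ (x i) := map_mulVec' φ V
  constructor
  · intro h x
    rw [← hφ.range_iff, ← hφ.range_iff, hV]
    exact h _
  · intro h l
    obtain ⟨s, hs, x, hx⟩ := hφ.exists_vec l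
    have hu := hφ.unit s hs
    have hl : (fun i => φ (x i)) = φ s • l := funext fun i => (hx i).symm
    have h1 := h x
    rw [← hφ.range_iff, ← hφ.range_iff, hV, hl, Matrix.mulVec_smul] at h1
    constructor
    · rintro ⟨y, hy⟩
      obtain ⟨z, hz⟩ := h1.1 ⟨φ s • y, by rw [Matrix.mulVec_smul, hy]⟩
      refine ⟨(↑hu.unit⁻¹ : L) • z, ?_⟩
      rw [Matrix.mulVec_smul, ← hz, smul_smul, IsUnit.val_inv_mul, one_smul]
    · rintro ⟨z, hz⟩
      obtain ⟨y, hy⟩ := h1.2 ⟨φ s • z, by rw [Matrix.mulVec_smul, hz]⟩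
      refine ⟨(↑hu.unit⁻¹ : L) • y, ?_⟩
      rw [Matrix.mulVec_smul, ← hy, smul_smul, IsUnit.val_inv_mul, one_smul]

theorem comp_equiv {L' : Type u} [CommRing L'] (e : L ≃+* L') : IsFibLoc A r ((e : L →+* L').comp φ) where
  unit s hs := (hφ.unit s hs).map e
  surj l := by
    obtain ⟨s, hs, x, hx⟩ := hφ.surj (e.symm l)
    exact ⟨s, hs, x, by simpa using congrArg e hx⟩
  ker x := by
    rw [← hφ.ker x]
    simp

end IsFibLoc

/-- The local ring of the fibre. -/
theorem isFibLoc_fibRing (r : PrimeSpectrum P) : IsFibLoc A r (L := FibRing A r) (algebraMap P (FibRing A r)) := by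
  obtain ⟨φ, hφ, hker⟩ := exists_surjective_fibRing (A := A) r
  let O := Localization.AtPrime r.asIdeal
  have hcomp : ∀ x, φ (algebraMap P O x) = algebraMap P (FibRing A r) x := φ.commutes
  refine ⟨fun s hs => ?_, fun l => ?_, fun x => ?_⟩
  · rw [← hcomp]
    exact (IsLocalization.map_units O (⟨s, hs⟩ : r.asIdeal.primeCompl)).map φ.toRingHom
  · obtain ⟨z, rfl⟩ := hφ l
    obtain ⟨x, ⟨s, hs⟩, rfl⟩ := IsLocalization.exists_mk'_eq r.asIdeal.primeCompl z
    refine ⟨s, hs, x, ?_⟩
    rw [← hcomp, ← map_mul, ← hcomp]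
    exact congrArg φ (IsLocalization.mk'_spec' O x (⟨s, hs⟩ : r.asIdeal.primeCompl))
  · rw [← hcomp]
    change algebraMap P O x ∈ RingHom.ker φ.toRingHom ↔ _
    rw [hker, IsScalarTower.algebraMap_eq A P O, ← Ideal.map_map,
      IsLocalization.algebraMap_mem_map_algebraMap_iff r.asIdeal.primeCompl O]
    rfl

theorem mex_iff_of_flat_local {L L' : Type u} [CommRing L] [CommRing L'] [IsLocalRing L] [IsLocalRing L']
    (U : Matrix (Fin b) (Fin a) P) (V : Matrix (Fin c) (Fin b) P) (W : Matrix (Fin c) (Fin d) P)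
    (φ : P →+* L) (ψ : L →+* L') (hflat : ψ.Flat) (hloc : IsLocalHom ψ) :
    MEx U V W (ψ.comp φ) ↔ MEx U V W φ := by
  letI : Algebra L L' := ψ.toAlgebra
  haveI : Module.Flat L L' := hflat
  haveI : IsLocalHom (algebraMap L L') := hloc
  haveI := Module.FaithfullyFlat.of_flat_of_isLocalHom (A := L) (B := L')
  exact mex_iff_of_faithfullyFlat U V W φ

/-- Pointwise exactness is invariant under base change. -/
theorem exAt_baseChange {A' P' : Type u} [CommRing A'] [CommRing P'] [Algebra A A'] [Algebra A' P'] [Algebra P P']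
    [Algebra A P'] [IsScalarTower A A' P'] [IsScalarTower A P P'] [Algebra.IsPushout A A' P P']
    [Algebra.FiniteType A P] [Algebra.FiniteType A' P'] (U : Matrix (Fin b) (Fin a) P)
    (V : Matrix (Fin c) (Fin b) P) (W : Matrix (Fin c) (Fin d) P) (r' : PrimeSpectrum P') :
    ExAt A' (U.map (algebraMap P P')) (V.map (algebraMap P P')) (W.map (algebraMap P P')) r' ↔
      ExAt A U V W (PrimeSpectrum.comap (algebraMap P P') r') := by
  let r := PrimeSpectrum.comap (algebraMap P P') r'
  obtain ⟨ψ, hflat, hloc, hψ⟩ := exists_flat_fibRing_hom (A := A) (A' := A') r' r rfl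
  rw [← (isFibLoc_fibRing r').mex_iff, mex_comp, ← (isFibLoc_fibRing r).mex_iff,
    show (algebraMap P' (FibRing A' r')).comp (algebraMap P P') = ψ.comp (algebraMap P (FibRing A r)) from
      RingHom.ext fun x => (hψ x).symm]
  exact mex_iff_of_flat_local (L := FibRing A r) (L' := FibRing A' r') U V W _ ψ hflat hloc

/-- Exactness over a ring is exactness at all its local rings. -/
theorem mex_id_iff_forall_prime {K : Type u} [CommRing K] (U₀ : Matrix (Fin b) (Fin a) K)
    (V₀ : Matrix (Fin c) (Fin b) K) (W₀ : Matrix (Fin c) (Fin d) K) :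
    MEx U₀ V₀ W₀ (RingHom.id K) ↔ ∀ Q : PrimeSpectrum K,
      MEx (L := Localization.AtPrime Q.asIdeal) U₀ V₀ W₀ (algebraMap K (Localization.AtPrime Q.asIdeal)) := by
  classical
  simp only [MEx, RingHom.coe_id, Matrix.map_id]
  constructor
  · intro h Q l
    let O := Localization.AtPrime Q.asIdeal
    obtain ⟨⟨s, hs⟩, hsl⟩ := IsLocalization.exist_integer_multiples_of_finite Q.asIdeal.primeCompl l
    choose x hx using hsl
    have hu : IsUnit (algebraMap K O s) := IsLocalization.map_units O (⟨s, hs⟩ : Q.asIdeal.primeCompl)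
    have hl : (fun i => algebraMap K O (x i)) = algebraMap K O s • l :=
      funext fun i => (hx i).trans (Algebra.smul_def _ _)
    constructor
    · rintro ⟨y, hy⟩
      obtain ⟨⟨t, ht⟩, hty⟩ := IsLocalization.exist_integer_multiples_of_finite Q.asIdeal.primeCompl y
      choose y' hy' using hty
      have hy'' : (fun i => algebraMap K O (y' i)) = algebraMap K O t • y :=
        funext fun i => (hy' i).trans (Algebra.smul_def _ _)
      have e : ∀ i, algebraMap K O ((t • (V₀ *ᵥ x)) i) = algebraMap K O ((s • (W₀ *ᵥ y')) i) := fun i => by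
        simp only [Pi.smul_apply, smul_eq_mul, map_mul]
        rw [congrFun (map_mulVec' (algebraMap K O) V₀ x) i, congrFun (map_mulVec' (algebraMap K O) W₀ y') i,
          hl, hy'', Matrix.mulVec_smul, Matrix.mulVec_smul, hy]
        simp only [Pi.smul_apply, smul_eq_mul]
        ring
      choose w hw using fun i => (IsLocalization.eq_iff_exists Q.asIdeal.primeCompl O).1 (e i)
      let w₀ : K := ∏ i, (w i : K)
      have hw₀ : w₀ ∉ Q.asIdeal := fun h => by
        obtain ⟨i, -, hi⟩ := Q.isPrime.prod_mem_iff.1 h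
        exact (w i).2 hi
      have e2 : V₀ *ᵥ ((w₀ * t) • x) = W₀ *ᵥ ((w₀ * s) • y') := by
        funext i
        obtain ⟨k, hk⟩ : ∃ k, w₀ = k * w i :=
          ⟨∏ j ∈ Finset.univ.erase i, (w j : K), (Finset.prod_erase_mul _ _ (Finset.mem_univ i)).symm⟩
        rw [Matrix.mulVec_smul, Matrix.mulVec_smul, hk]
        have := hw i
        simp only [Pi.smul_apply, smul_eq_mul] at this ⊢
        linear_combination k * this
      obtain ⟨z, hz⟩ := (h _).1 ⟨_, e2⟩
      have hu' : IsUnit (algebraMap K O (w₀ * t * s)) := IsLocalization.map_units O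
        (⟨w₀ * t * s, fun h => (Q.isPrime.mem_or_mem h).elim
          (fun h => (Q.isPrime.mem_or_mem h).elim hw₀ ht) hs⟩ : Q.asIdeal.primeCompl)
      refine ⟨(↑hu'.unit⁻¹ : O) • fun i => algebraMap K O (z i), ?_⟩
      rw [Matrix.mulVec_smul, ← map_mulVec', ← hz]
      have : (fun i => algebraMap K O (((w₀ * t) • x) i)) = algebraMap K O (w₀ * t * s) • l := by
        funext i
        simp only [Pi.smul_apply, smul_eq_mul, map_mul]
        rw [congrFun hl i, Pi.smul_apply, smul_eq_mul]
        ring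
      rw [this, smul_smul, IsUnit.val_inv_mul, one_smul]
    · rintro ⟨z, rfl⟩
      obtain ⟨⟨t, ht⟩, htz⟩ := IsLocalization.exist_integer_multiples_of_finite Q.asIdeal.primeCompl z
      choose z' hz' using htz
      have hz'' : (fun i => algebraMap K O (z' i)) = algebraMap K O t • z :=
        funext fun i => (hz' i).trans (Algebra.smul_def _ _)
      obtain ⟨y, hy⟩ := (h _).2 ⟨z', rfl⟩
      have hu' : IsUnit (algebraMap K O t) := IsLocalization.map_units O (⟨t, ht⟩ : Q.asIdeal.primeCompl)
      refine ⟨(↑hu'.unit⁻¹ : O) • fun i => algebraMap K O (y i), ?_⟩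
      rw [Matrix.mulVec_smul (W₀.map _), ← map_mulVec', ← hy, map_mulVec', map_mulVec', hz'',
        Matrix.mulVec_smul, Matrix.mulVec_smul, smul_smul, IsUnit.val_inv_mul, one_smul]
  · intro h x
    constructor
    · rintro ⟨y, hy⟩
      let J : Ideal K := Submodule.comap (LinearMap.toSpanSingleton K _ x) (LinearMap.range U₀.mulVecLin)
      suffices hJ : J = ⊤ by
        obtain ⟨z, hz⟩ : x ∈ LinearMap.range U₀.mulVecLin := by
          simpa [J] using (hJ ▸ Submodule.mem_top : (1 : K) ∈ J)
        exact ⟨z, hz.symm⟩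
      by_contra hne
      obtain ⟨Q, hQ, hJQ⟩ := Ideal.exists_le_maximal J hne
      let O := Localization.AtPrime Q
      obtain ⟨z, hz⟩ := (h ⟨Q, hQ.isPrime⟩ fun i => algebraMap K O (x i)).1
        ⟨fun i => algebraMap K O (y i), by rw [← map_mulVec', hy, map_mulVec']⟩
      obtain ⟨⟨t, ht⟩, htz⟩ := IsLocalization.exist_integer_multiples_of_finite Q.primeCompl z
      choose z' hz' using htz
      have hz'' : (fun i => algebraMap K O (z' i)) = algebraMap K O t • z :=
        funext fun i => (hz' i).trans (Algebra.smul_def _ _)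
      choose w hw using fun i => (IsLocalization.eq_iff_exists Q.primeCompl O).1
        (show algebraMap K O (t * x i) = algebraMap K O ((U₀ *ᵥ z') i) by
          rw [map_mul, congrFun (map_mulVec' (algebraMap K O) U₀ z') i, hz'', Matrix.mulVec_smul, congrFun hz i]
          rfl)
      have hmem : (∏ i, (w i : K)) * t ∈ J := by
        refine ⟨(∏ i, (w i : K)) • z', funext fun i => ?_⟩
        obtain ⟨k, hk⟩ : ∃ k, ∏ i, (w i : K) = k * w i :=
          ⟨∏ j ∈ Finset.univ.erase i, (w j : K), (Finset.prod_erase_mul _ _ (Finset.mem_univ i)).symm⟩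
        simp only [Matrix.mulVecLin_apply, LinearMap.toSpanSingleton_apply, Matrix.mulVec_smul, Pi.smul_apply,
          smul_eq_mul, hk]
        linear_combination -k * hw i
      rcases hQ.isPrime.mem_or_mem (hJQ hmem) with hm | hm
      · obtain ⟨i, -, hi⟩ := hQ.isPrime.prod_mem_iff.1 hm
        exact (w i).2 hi
      · exact ht hm
    · rintro ⟨z, rfl⟩
      let J : Ideal K := Submodule.comap (LinearMap.toSpanSingleton K _ (V₀ *ᵥ (U₀ *ᵥ z)))
        (LinearMap.range W₀.mulVecLin)
      suffices hJ : J = ⊤ by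
        obtain ⟨y, hy⟩ : V₀ *ᵥ (U₀ *ᵥ z) ∈ LinearMap.range W₀.mulVecLin := by
          simpa [J] using (hJ ▸ Submodule.mem_top : (1 : K) ∈ J)
        exact ⟨y, hy.symm⟩
      by_contra hne
      obtain ⟨Q, hQ, hJQ⟩ := Ideal.exists_le_maximal J hne
      let O := Localization.AtPrime Q
      obtain ⟨y, hy⟩ := (h ⟨Q, hQ.isPrime⟩ fun i => algebraMap K O ((U₀ *ᵥ z) i)).2
        ⟨fun i => algebraMap K O (z i), map_mulVec' _ _ _⟩
      rw [← map_mulVec'] at hy
      obtain ⟨⟨t, ht⟩, hty⟩ := IsLocalization.exist_integer_multiples_of_finite Q.primeCompl y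
      choose y' hy' using hty
      have hy'' : (fun i => algebraMap K O (y' i)) = algebraMap K O t • y :=
        funext fun i => (hy' i).trans (Algebra.smul_def _ _)
      choose w hw using fun i => (IsLocalization.eq_iff_exists Q.primeCompl O).1
        (show algebraMap K O (t * (V₀ *ᵥ (U₀ *ᵥ z)) i) = algebraMap K O ((W₀ *ᵥ y') i) by
          rw [map_mul, congrFun (map_mulVec' (algebraMap K O) W₀ y') i, hy'', Matrix.mulVec_smul, congrFun hy i]
          rfl)
      have hmem : (∏ i, (w i : K)) * t ∈ J := by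
        refine ⟨(∏ i, (w i : K)) • y', funext fun i => ?_⟩
        obtain ⟨k, hk⟩ : ∃ k, ∏ i, (w i : K) = k * w i :=
          ⟨∏ j ∈ Finset.univ.erase i, (w j : K), (Finset.prod_erase_mul _ _ (Finset.mem_univ i)).symm⟩
        simp only [Matrix.mulVecLin_apply, LinearMap.toSpanSingleton_apply, Matrix.mulVec_smul, Pi.smul_apply,
          smul_eq_mul, hk]
        linear_combination -k * hw i
      rcases hQ.isPrime.mem_or_mem (hJQ hmem) with hm | hm
      · obtain ⟨i, -, hi⟩ := hQ.isPrime.prod_mem_iff.1 hm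
        exact (w i).2 hi
      · exact ht hm

theorem mex_iff_forall_prime {K : Type u} [CommRing K] (U : Matrix (Fin b) (Fin a) P)
    (V : Matrix (Fin c) (Fin b) P) (W : Matrix (Fin c) (Fin d) P) (ι : P →+* K) :
    MEx U V W ι ↔ ∀ Q : PrimeSpectrum K,
      MEx (L := Localization.AtPrime Q.asIdeal) U V W ((algebraMap K (Localization.AtPrime Q.asIdeal)).comp ι) := by
  have h := mex_id_iff_forall_prime (U.map ι) (V.map ι) (W.map ι)
  rw [mex_comp, RingHom.id_comp] at h
  exact h.trans (forall_congr' fun Q => mex_comp U V W ι (L := Localization.AtPrime Q.asIdeal) _)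

/-- Exactness over a fibre is exactness at all its points. -/
theorem mex_fiber_iff (U : Matrix (Fin b) (Fin a) P) (V : Matrix (Fin c) (Fin b) P)
    (W : Matrix (Fin c) (Fin d) P) (p : Ideal A) [p.IsPrime] :
    MEx U V W (Algebra.TensorProduct.includeRight : P →ₐ[A] p.Fiber P).toRingHom ↔
      ∀ r : PrimeSpectrum P, basePrime A r = p → ExAt A U V W r := by
  let ι := (Algebra.TensorProduct.includeRight : P →ₐ[A] p.Fiber P).toRingHom
  have hloc : ∀ (Q : PrimeSpectrum (p.Fiber P)),
      MEx (L := Localization.AtPrime Q.asIdeal) U V W ((algebraMap (p.Fiber P) (Localization.AtPrime Q.asIdeal)).comp ι) ↔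
        ExAt A U V W (PrimeSpectrum.comap ι Q) := fun Q => by
    obtain ⟨e⟩ := exists_algEquiv_fibRing_of_fiber p Q (PrimeSpectrum.comap ι Q) rfl
    have h := (isFibLoc_fibRing (A := A) (PrimeSpectrum.comap ι Q)).comp_equiv (L' := Localization.AtPrime Q.asIdeal) e.symm.toRingEquiv
    rw [show (algebraMap (p.Fiber P) (Localization.AtPrime Q.asIdeal)).comp ι =
      (e.symm.toRingEquiv : FibRing A (PrimeSpectrum.comap ι Q) →+* Localization.AtPrime Q.asIdeal).comp
        (algebraMap P (FibRing A (PrimeSpectrum.comap ι Q))) from RingHom.ext fun x => by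
      refine Eq.trans ?_ (e.symm.commutes x).symm
      exact (IsScalarTower.algebraMap_apply P (p.Fiber P) (Localization.AtPrime Q.asIdeal) x).symm]
    exact h.mex_iff U V W
  rw [mex_iff_forall_prime]
  constructor
  · intro h r hr
    subst hr
    have := (hloc (point A r)).1 (h _)
    rwa [show PrimeSpectrum.comap ι (point A r) = r from PrimeSpectrum.ext (comap_point r)] at this
  · intro h Q
    refine (hloc Q).2 (h _ ?_)
    exact congrArg (fun z : PrimeSpectrum A => z.asIdeal)
      ((PrimeSpectrum.preimageEquivFiber A P ⟨p, inferInstance⟩).symm Q).2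

end Groth.Agent.ExactConstrLib
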