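import Mathlib

/-!
Exactness of sequences of free modules given by matrices, and its behaviour under flat ring maps.
-/

set_option autoImplicit false
set_option linter.style.haveILetI false
universe u

open Matrix TensorProduct

noncomputable section

namespace Groth.Agent.ExactConstrLib

variable {P L L' : Type u} [CommRing P] [CommRing L] [CommRing L'] {a b c d : ℕ}

/-- The matrices `(U, V, W)` give an exact sequence `L^a → L^b → L^c / im W`. -/
def MEx (U : Matrix (Fin b) (Fin a) P) (V : Matrix (Fin c) (Fin b) P) (W : Matrix (Fin c) (Fin d) P)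
    (φ : P →+* L) : Prop :=
  ∀ x : Fin b → L, (∃ y, V.map φ *ᵥ x = W.map φ *ᵥ y) ↔ ∃ z, x = U.map φ *ᵥ z

theorem mex_comp (U : Matrix (Fin b) (Fin a) P) (V : Matrix (Fin c) (Fin b) P) (W : Matrix (Fin c) (Fin d) P)
    {P' : Type u} [CommRing P'] (ψ : P →+* P') (φ : P' →+* L) :
    MEx (U.map ψ) (V.map ψ) (W.map ψ) φ ↔ MEx U V W (φ.comp ψ) := by
  simp only [MEx, Matrix.map_map]
  rfl

section Flat

variable [Algebra L L'] {ι κ : Type} [Fintype ι] [Fintype κ] [DecidableEq ι] [DecidableEq κ]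

/-- Base change of vectors. -/
def vecEquiv (L L' : Type u) [CommRing L] [CommRing L'] [Algebra L L'] (ι : Type) [Fintype ι] [DecidableEq ι] :
    L' ⊗[L] (ι → L) ≃ₗ[L'] (ι → L') :=
  piScalarRight L L' L' ι

theorem vecEquiv_tmul (l : L') (x : ι → L) :
    vecEquiv L L' ι (l ⊗ₜ x) = l • fun i => algebraMap L L' (x i) := by
  funext i
  simp [vecEquiv, piScalarRightHom_tmul, Algebra.smul_def, mul_comm]

theorem vecEquiv_natural (M : Matrix κ ι L) (z : L' ⊗[L] (ι → L)) :
    vecEquiv L L' κ (M.mulVecLin.lTensor L' z) = M.map (algebraMap L L') *ᵥ vecEquiv L L' ι z := by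
  induction z using TensorProduct.induction_on with
  | zero => simp
  | tmul l x =>
    rw [LinearMap.lTensor_tmul, vecEquiv_tmul, vecEquiv_tmul, Matrix.mulVec_smul]
    congr 1
    funext i
    exact RingHom.map_mulVec (algebraMap L L') M x i
  | add z w hz hw => simp only [map_add, hz, hw, Matrix.mulVec_add]

/-- Solutions of a linear system over a flat algebra are combinations of solutions over the base. -/
theorem mem_span_ker_of_flat [Module.Flat L L'] (M : Matrix κ ι L) (z : ι → L')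
    (hz : M.map (algebraMap L L') *ᵥ z = 0) :
    z ∈ Submodule.span L' {w : ι → L' | ∃ x : ι → L, M *ᵥ x = 0 ∧ w = fun i => algebraMap L L' (x i)} := by
  obtain ⟨t, rfl⟩ := (vecEquiv L L' ι).surjective z
  rw [← vecEquiv_natural, LinearEquiv.map_eq_zero_iff] at hz
  obtain ⟨s, rfl⟩ := ((Module.Flat.lTensor_exact L' (LinearMap.exact_subtype_ker_map M.mulVecLin)) t).1 hz
  clear hz
  induction s using TensorProduct.induction_on with
  | zero => simp
  | tmul l x =>
    rw [LinearMap.lTensor_tmul, vecEquiv_tmul]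
    exact Submodule.smul_mem _ _ (Submodule.subset_span ⟨x.1, LinearMap.mem_ker.1 x.2, rfl⟩)
  | add s t hs ht => rw [map_add, map_add]; exact add_mem hs ht

/-- Solvability of a linear system descends along faithfully flat algebras. -/
theorem exists_of_faithfullyFlat [Module.FaithfullyFlat L L'] (M : Matrix κ ι L) (x : κ → L) (y : ι → L')
    (h : (fun i => algebraMap L L' (x i)) = M.map (algebraMap L L') *ᵥ y) : ∃ y₀, x = M *ᵥ y₀ := by
  obtain ⟨t, rfl⟩ := (vecEquiv L L' ι).surjective y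
  rw [← vecEquiv_natural, show (fun i => algebraMap L L' (x i)) = vecEquiv L L' κ (1 ⊗ₜ x) by
    rw [vecEquiv_tmul, one_smul]] at h
  have h' := (vecEquiv L L' κ).injective h
  let q := Submodule.mkQ (LinearMap.range M.mulVecLin)
  have h0 : q.lTensor L' (1 ⊗ₜ x) = 0 := by
    rw [h', ← LinearMap.lTensor_comp_apply, show q ∘ₗ M.mulVecLin = 0 from
      LinearMap.ext fun z => (Submodule.Quotient.mk_eq_zero _).2 ⟨z, rfl⟩, LinearMap.lTensor_zero,
      LinearMap.zero_apply]
  rw [LinearMap.lTensor_tmul] at h0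
  have h1 : q x = 0 := Module.FaithfullyFlat.tensorProduct_mk_injective (A := L) (B := L') _
    (h0.trans (tmul_zero _ _).symm)
  obtain ⟨y₀, hy₀⟩ := (Submodule.Quotient.mk_eq_zero _).1 h1
  exact ⟨y₀, hy₀.symm⟩

end Flat

theorem map_mulVec' {ι κ : Type} [Fintype ι] (ψ : L →+* L') (M : Matrix κ ι L) (x : ι → L) :
    (fun i => ψ ((M *ᵥ x) i)) = M.map ψ *ᵥ fun i => ψ (x i) :=
  funext fun i => RingHom.map_mulVec ψ M x i

/-- Exactness is invariant under faithfully flat extensions. -/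
theorem mex_iff_of_faithfullyFlat [Algebra L L'] [Module.FaithfullyFlat L L'] (U : Matrix (Fin b) (Fin a) P)
    (V : Matrix (Fin c) (Fin b) P) (W : Matrix (Fin c) (Fin d) P) (φ : P →+* L) :
    MEx U V W ((algebraMap L L').comp φ) ↔ MEx U V W φ := by
  classical
  let ψ := algebraMap L L'
  have hU : U.map (ψ.comp φ) = (U.map φ).map ψ := (Matrix.map_map ..).symm
  have hV : V.map (ψ.comp φ) = (V.map φ).map ψ := (Matrix.map_map ..).symm
  have hW : W.map (ψ.comp φ) = (W.map φ).map ψ := (Matrix.map_map ..).symm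
  rw [MEx, MEx, hU, hV, hW]
  generalize U.map φ = U₀, V.map φ = V₀, W.map φ = W₀
  constructor
  · intro h x
    constructor
    · rintro ⟨y, hy⟩
      obtain ⟨z, hz⟩ := (h (fun i => ψ (x i))).1 ⟨fun i => ψ (y i), by rw [← map_mulVec', hy, map_mulVec']⟩
      exact exists_of_faithfullyFlat U₀ x z hz
    · rintro ⟨z, rfl⟩
      obtain ⟨y, hy⟩ := (h (fun i => ψ ((U₀ *ᵥ z) i))).2 ⟨fun i => ψ (z i), map_mulVec' ψ U₀ z⟩
      rw [← map_mulVec'] at hy
      exact exists_of_faithfullyFlat W₀ _ y hy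
  · intro h x
    constructor
    · rintro ⟨y, hy⟩
      have hm := mem_span_ker_of_flat (L' := L') (Matrix.fromCols V₀ (-W₀)) (Sum.elim x y) (by
        rw [show (Matrix.fromCols V₀ (-W₀)).map ψ = Matrix.fromCols (V₀.map ψ) (-(W₀.map ψ)) by
          ext i (j | j) <;> simp [Matrix.fromCols, ψ], Matrix.fromCols_mulVec_sumElim, Matrix.neg_mulVec, hy,
          add_neg_cancel])
      suffices h2 : ∀ w ∈ Submodule.span L' {w : Fin b ⊕ Fin d → L' | ∃ x : Fin b ⊕ Fin d → L,
          Matrix.fromCols V₀ (-W₀) *ᵥ x = 0 ∧ w = fun i => ψ (x i)}, ∃ z, (fun i => w (Sum.inl i)) = U₀.map ψ *ᵥ z by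
        obtain ⟨z, hz⟩ := h2 _ hm
        exact ⟨z, hz⟩
      intro w hw
      induction hw using Submodule.span_induction with
      | mem w hw =>
        obtain ⟨v, hv, rfl⟩ := hw
        rw [Matrix.fromCols_mulVec, Matrix.neg_mulVec, add_neg_eq_zero] at hv
        obtain ⟨z, hz⟩ := (h (v ∘ Sum.inl)).1 ⟨v ∘ Sum.inr, hv⟩
        exact ⟨fun i => ψ (z i), by
          rw [← map_mulVec', ← hz]
          rfl⟩
      | zero => exact ⟨0, by rw [Matrix.mulVec_zero]; rfl⟩
      | add w w' _ _ hw hw' =>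
        obtain ⟨z, hz⟩ := hw; obtain ⟨z', hz'⟩ := hw'
        exact ⟨z + z', by rw [Matrix.mulVec_add, ← hz, ← hz']; rfl⟩
      | smul l w _ hw =>
        obtain ⟨z, hz⟩ := hw
        exact ⟨l • z, by rw [Matrix.mulVec_smul, ← hz]; rfl⟩
    · rintro ⟨z, rfl⟩
      have hcol : ∀ j : Fin a, ∃ y, V₀ *ᵥ (U₀ *ᵥ Pi.single j 1) = W₀ *ᵥ y := fun j => (h _).2 ⟨_, rfl⟩
      choose Y hY using hcol
      refine ⟨∑ j, z j • fun i => ψ (Y j i), ?_⟩
      have hz : z = ∑ j, z j • fun i => ψ (Pi.single (M := fun _ : Fin a => L) j 1 i) := by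
        funext i
        simp [Finset.sum_apply, Pi.single_apply, apply_ite ψ]
      conv_lhs => rw [hz]
      simp only [Matrix.mulVec_sum, Matrix.mulVec_smul, ← map_mulVec', hY]

end Groth.Agent.ExactConstrLib
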