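import Groth.Agent.ExactConstrLib.Constr

/-!
Constructibility of exactness of the fibres of sequences of finitely presented modules.
-/

set_option autoImplicit false
set_option linter.style.haveILetI false
universe u

open Topology Matrix TensorProduct

noncomputable section

namespace Groth.Agent.ExactConstrLib

open FibreDepth

attribute [local instance] Algebra.TensorProduct.rightAlgebra

section BaseChange

variable {R P : Type u} [CommRing R] [CommRing P] [Algebra R P] (k : Type u) [CommRing k] [Algebra R k]

/-- Vectors over the base change. -/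
def bcVec (n : ℕ) : k ⊗[R] (Fin n → P) ≃ₗ[k] (Fin n → k ⊗[R] P) :=
  piRight R k k fun _ : Fin n => P

theorem bcVec_natural {l n : ℕ} (M : Matrix (Fin l) (Fin n) P) (z : k ⊗[R] (Fin n → P)) :
    bcVec k l ((M.mulVecLin.restrictScalars R).baseChange k z) =
      M.map (Algebra.TensorProduct.includeRight : P →ₐ[R] k ⊗[R] P).toRingHom *ᵥ bcVec k n z := by
  induction z using TensorProduct.induction_on with
  | zero => simp
  | tmul x y =>
    funext i
    simp only [LinearMap.baseChange_tmul, bcVec, piRight_apply, piRightHom_tmul, LinearMap.restrictScalars_apply,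
      Matrix.mulVecLin_apply]
    simp only [Matrix.mulVec, dotProduct, tmul_sum, Matrix.map_apply]
    refine Finset.sum_congr rfl fun j _ => ?_
    show x ⊗ₜ[R] (M i j * y j) = ((1 : k) ⊗ₜ[R] M i j) * (x ⊗ₜ[R] y j)
    rw [Algebra.TensorProduct.tmul_mul_tmul, one_mul]
  | add z w hz hw => simp only [map_add, hz, hw, Matrix.mulVec_add]

variable {F G H : Type u} [AddCommGroup F] [Module P F] [Module R F] [IsScalarTower R P F]
  [AddCommGroup G] [Module P G] [Module R G] [IsScalarTower R P G]
  [AddCommGroup H] [Module P H] [Module R H] [IsScalarTower R P H]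

theorem ker_bc {n e : ℕ} (β : (Fin n → P) →ₗ[P] G) (hβ : Function.Surjective β) (W : Matrix (Fin n) (Fin e) P)
    (hW : Function.Exact W.mulVecLin β) (x : Fin n → k ⊗[R] P) :
    (β.restrictScalars R).baseChange k ((bcVec k n).symm x) = 0 ↔
      ∃ y, x = W.map (Algebra.TensorProduct.includeRight : P →ₐ[R] k ⊗[R] P).toRingHom *ᵥ y := by
  have hex : Function.Exact ((W.mulVecLin.restrictScalars R).baseChange k) ((β.restrictScalars R).baseChange k) :=
    lTensor_exact k (f := W.mulVecLin.restrictScalars R) (g := β.restrictScalars R) hW hβ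
  rw [hex]
  constructor
  · rintro ⟨z, hz⟩
    exact ⟨bcVec k e z, by rw [← bcVec_natural, hz, LinearEquiv.apply_symm_apply]⟩
  · rintro ⟨y, hy⟩
    refine ⟨(bcVec k e).symm y, ?_⟩
    rw [LinearEquiv.eq_symm_apply, bcVec_natural, LinearEquiv.apply_symm_apply, hy]

/-- Exactness after base change, in terms of matrices. -/
theorem exact_baseChange_iff {a b c e d : ℕ} (u : F →ₗ[P] G) (v : G →ₗ[P] H) (α : (Fin a → P) →ₗ[P] F)
    (hα : Function.Surjective α) (β : (Fin b → P) →ₗ[P] G) (hβ : Function.Surjective β)
    (γ : (Fin c → P) →ₗ[P] H) (hγ : Function.Surjective γ) (Wg : Matrix (Fin b) (Fin e) P)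
    (hWg : Function.Exact Wg.mulVecLin β) (W : Matrix (Fin c) (Fin d) P) (hW : Function.Exact W.mulVecLin γ)
    (U : Matrix (Fin b) (Fin a) P) (hU : β ∘ₗ U.mulVecLin = u ∘ₗ α) (V : Matrix (Fin c) (Fin b) P)
    (hV : γ ∘ₗ V.mulVecLin = v ∘ₗ β) :
    Function.Exact ((u.restrictScalars R).baseChange k) ((v.restrictScalars R).baseChange k) ↔
      MEx ((Matrix.fromCols U Wg).submatrix id finSumFinEquiv.symm) V W
        (Algebra.TensorProduct.includeRight : P →ₐ[R] k ⊗[R] P).toRingHom := by
  let ι := (Algebra.TensorProduct.includeRight : P →ₐ[R] k ⊗[R] P).toRingHom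
  let g := fun x => (β.restrictScalars R).baseChange k ((bcVec k b).symm x)
  have hgs : Function.Surjective g :=
    (LinearMap.lTensor_surjective k (g := β.restrictScalars R) hβ).comp (bcVec k b).symm.surjective
  have hsur : Function.Surjective fun z => (α.restrictScalars R).baseChange k ((bcVec k a).symm z) :=
    (LinearMap.lTensor_surjective k (g := α.restrictScalars R) hα).comp (bcVec k a).symm.surjective
  have hv : ∀ x, (v.restrictScalars R).baseChange k (g x) =
      (γ.restrictScalars R).baseChange k ((bcVec k c).symm (V.map ι *ᵥ x)) := fun x => by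
    obtain ⟨z, rfl⟩ := (bcVec k b).surjective x
    simp only [g, ← bcVec_natural, LinearEquiv.symm_apply_apply, ι, ← LinearMap.comp_apply,
      ← LinearMap.baseChange_comp]
    congr 2
    exact (congrArg (LinearMap.restrictScalars R) hV).symm
  have hu : ∀ z, (u.restrictScalars R).baseChange k ((α.restrictScalars R).baseChange k ((bcVec k a).symm z)) =
      g (U.map ι *ᵥ z) := fun z => by
    obtain ⟨z, rfl⟩ := (bcVec k a).surjective z
    simp only [g, ← bcVec_natural, LinearEquiv.symm_apply_apply, ι, ← LinearMap.comp_apply,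
      ← LinearMap.baseChange_comp]
    congr 2
    exact (congrArg (LinearMap.restrictScalars R) hU).symm
  have hU' : ∀ z, ((Matrix.fromCols U Wg).submatrix id finSumFinEquiv.symm).map ι *ᵥ z =
      U.map ι *ᵥ (z ∘ finSumFinEquiv ∘ Sum.inl) + Wg.map ι *ᵥ (z ∘ finSumFinEquiv ∘ Sum.inr) := fun z => by
    rw [show ((Matrix.fromCols U Wg).submatrix id finSumFinEquiv.symm).map ι =
      (Matrix.fromCols (U.map ι) (Wg.map ι)).submatrix id finSumFinEquiv.symm from Matrix.ext fun i j => by
        simp only [Matrix.map_apply, Matrix.submatrix_apply]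
        rcases finSumFinEquiv.symm j with j | j <;> rfl,
      Matrix.submatrix_mulVec_equiv, Function.comp_id, Matrix.fromCols_mulVec, Equiv.symm_symm]
    rfl
  have hrange : ∀ x, g x ∈ Set.range ((u.restrictScalars R).baseChange k) ↔
      ∃ z, x = ((Matrix.fromCols U Wg).submatrix id finSumFinEquiv.symm).map ι *ᵥ z := by
    intro x
    constructor
    · rintro ⟨w, hw⟩
      obtain ⟨z₁, rfl⟩ := hsur w
      rw [hu] at hw
      have h0 : (β.restrictScalars R).baseChange k ((bcVec k b).symm (x - U.map ι *ᵥ z₁)) = 0 := by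
        rw [map_sub, map_sub]
        exact sub_eq_zero.2 hw.symm
      obtain ⟨z₂, hz₂⟩ := (ker_bc k β hβ Wg hWg _).1 h0
      refine ⟨Sum.elim z₁ z₂ ∘ finSumFinEquiv.symm, ?_⟩
      rw [hU', eq_add_of_sub_eq hz₂, add_comm]
      congr 2 <;> funext i <;> simp
    · rintro ⟨z, rfl⟩
      refine ⟨(α.restrictScalars R).baseChange k ((bcVec k a).symm (z ∘ finSumFinEquiv ∘ Sum.inl)), ?_⟩
      rw [hu, hU']
      simp only [g, map_add]
      rw [(ker_bc k β hβ Wg hWg (Wg.map ι *ᵥ (z ∘ finSumFinEquiv ∘ Sum.inr))).2 ⟨_, rfl⟩, add_zero]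
  constructor
  · intro h x
    rw [← hrange, ← h, hv, ker_bc k γ hγ W hW]
  · intro h y
    obtain ⟨x, rfl⟩ := hgs y
    rw [hrange, hv, ker_bc k γ hγ W hW]
    exact h x

end BaseChange

/-- Matrices presenting a sequence of finitely presented modules. -/
theorem exists_matrices {R P : Type u} [CommRing R] [CommRing P] [Algebra R P] {F G H : Type u}
    [AddCommGroup F] [Module P F] [Module R F] [IsScalarTower R P F] [Module.Finite P F]
    [AddCommGroup G] [Module P G] [Module R G] [IsScalarTower R P G] [Module.FinitePresentation P G]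
    [AddCommGroup H] [Module P H] [Module R H] [IsScalarTower R P H] [Module.FinitePresentation P H]
    (u : F →ₗ[P] G) (v : G →ₗ[P] H) :
    ∃ (a b c d : ℕ) (U : Matrix (Fin b) (Fin a) P) (V : Matrix (Fin c) (Fin b) P) (W : Matrix (Fin c) (Fin d) P),
      ∀ (k : Type u) [CommRing k] [Algebra R k],
        Function.Exact ((u.restrictScalars R).baseChange k) ((v.restrictScalars R).baseChange k) ↔
          MEx U V W (Algebra.TensorProduct.includeRight : P →ₐ[R] k ⊗[R] P).toRingHom := by
  classical
  obtain ⟨a, α, hα⟩ := Module.Finite.exists_fin' P F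
  obtain ⟨b, e, β, gβ, hβ, hgβ⟩ := Module.FinitePresentation.exists_fin' P G
  obtain ⟨c, d, γ, gγ, hγ, hgγ⟩ := Module.FinitePresentation.exists_fin' P H
  obtain ⟨Ul, hUl⟩ := Module.projective_lifting_property β (u ∘ₗ α) hβ
  obtain ⟨Vl, hVl⟩ := Module.projective_lifting_property γ (v ∘ₗ β) hγ
  have hmv : ∀ {l n : ℕ} (g : (Fin n → P) →ₗ[P] (Fin l → P)), (LinearMap.toMatrix' g).mulVecLin = g := fun g => by
    rw [← Matrix.toLin'_apply', Matrix.toLin'_toMatrix']
  refine ⟨a + e, b, c, d, _, LinearMap.toMatrix' Vl, LinearMap.toMatrix' gγ, fun k _ _ =>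
    exact_baseChange_iff k u v α hα β hβ γ hγ (LinearMap.toMatrix' gβ) (by rwa [hmv]) _ (by rwa [hmv])
      (LinearMap.toMatrix' Ul) (by rw [hmv, hUl]) _ (by rw [hmv, hVl])⟩

variable {R B : Type u} [CommRing R] [CommRing B] [Algebra R B] [Algebra.FinitePresentation R B]
  {F G H : Type u} [AddCommGroup F] [Module B F] [Module R F] [IsScalarTower R B F] [Module.FinitePresentation B F]
  [AddCommGroup G] [Module B G] [Module R G] [IsScalarTower R B G] [Module.FinitePresentation B G]
  [AddCommGroup H] [Module B H] [Module R H] [IsScalarTower R B H] [Module.FinitePresentation B H]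

theorem exists_poly_matrices (u : F →ₗ[B] G) (v : G →ₗ[B] H) :
    ∃ (m a b c d : ℕ) (U : Matrix (Fin b) (Fin a) (MvPolynomial (Fin m) R))
      (V : Matrix (Fin c) (Fin b) (MvPolynomial (Fin m) R)) (W : Matrix (Fin c) (Fin d) (MvPolynomial (Fin m) R)),
      ∀ (p : Ideal R) [p.IsPrime],
        Function.Exact ((u.restrictScalars R).baseChange p.ResidueField) ((v.restrictScalars R).baseChange p.ResidueField) ↔
          ∀ r, basePrime R r = p → ExAt R U V W r := by
  obtain ⟨m, π, hπ, hker⟩ := Algebra.FinitePresentation.out (R := R) (A := B)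
  let P := MvPolynomial (Fin m) R
  letI : Algebra P B := π.toRingHom.toAlgebra
  haveI : IsScalarTower R P B := .of_algebraMap_eq fun r => (π.commutes r).symm
  haveI : Module.FinitePresentation P B :=
    Module.finitePresentation_of_surjective (Algebra.linearMap P B) hπ hker
  letI : Module P F := Module.compHom F π.toRingHom
  letI : Module P G := Module.compHom G π.toRingHom
  letI : Module P H := Module.compHom H π.toRingHom
  haveI : IsScalarTower P B F := .of_algebraMap_smul fun _ _ => rfl
  haveI : IsScalarTower P B G := .of_algebraMap_smul fun _ _ => rfl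
  haveI : IsScalarTower P B H := .of_algebraMap_smul fun _ _ => rfl
  haveI : IsScalarTower R P F := .of_algebraMap_smul fun r z => by
    show π (algebraMap R P r) • z = r • z
    rw [π.commutes, algebraMap_smul]
  haveI : IsScalarTower R P G := .of_algebraMap_smul fun r z => by
    show π (algebraMap R P r) • z = r • z
    rw [π.commutes, algebraMap_smul]
  haveI : IsScalarTower R P H := .of_algebraMap_smul fun r z => by
    show π (algebraMap R P r) • z = r • z
    rw [π.commutes, algebraMap_smul]
  haveI : Module.FinitePresentation P F := Module.FinitePresentation.trans (R := P) (S := B) (M := F)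
  haveI : Module.FinitePresentation P G := Module.FinitePresentation.trans (R := P) (S := B) (M := G)
  haveI : Module.FinitePresentation P H := Module.FinitePresentation.trans (R := P) (S := B) (M := H)
  obtain ⟨a, b, c, d, U, V, W, h⟩ := exists_matrices (R := R) (u.restrictScalars P) (v.restrictScalars P)
  refine ⟨m, a, b, c, d, U, V, W, fun p _ => ?_⟩
  exact (h p.ResidueField).trans (mex_fiber_iff U V W p)

theorem isConstructible_fibre_exact (u : F →ₗ[B] G) (v : G →ₗ[B] H) :
    IsConstructible {p : PrimeSpectrum R | Function.Exact ((u.restrictScalars R).baseChange p.asIdeal.ResidueField)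
      ((v.restrictScalars R).baseChange p.asIdeal.ResidueField)} := by
  obtain ⟨m, a, b, c, d, U, V, W, h⟩ := exists_poly_matrices (R := R) u v
  have hC : (MvPolynomial.C : R →+* MvPolynomial (Fin m) R).FinitePresentation := by
    rw [← MvPolynomial.algebraMap_eq]
    exact RingHom.finitePresentation_algebraMap.2 inferInstance
  have himg := (PrimeSpectrum.isConstructible_comap_image hC (isConstructible_exAt U V W).compl).compl
  convert himg using 1
  ext p
  simp only [Set.mem_ofPred_eq, h p.asIdeal, Set.mem_compl_iff, Set.mem_image, not_exists, not_and]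
  exact ⟨fun hp r hr he => hr (hp r (congrArg PrimeSpectrum.asIdeal he)),
    fun hp r hr => by_contra fun hne => hp r hne (PrimeSpectrum.ext hr)⟩

theorem exists_forall_fibre_exact [IsDomain R] (u : F →ₗ[B] G) (v : G →ₗ[B] H)
    (hgen : Function.Exact ((u.restrictScalars R).baseChange (FractionRing R))
      ((v.restrictScalars R).baseChange (FractionRing R))) :
    ∃ f : R, f ≠ 0 ∧ ∀ p : PrimeSpectrum R, f ∉ p.asIdeal →
      Function.Exact ((u.restrictScalars R).baseChange p.asIdeal.ResidueField)
        ((v.restrictScalars R).baseChange p.asIdeal.ResidueField) := by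
  obtain ⟨m, a, b, c, d, U, V, W, h⟩ := exists_poly_matrices (R := R) u v
  haveI : (⊥ : Ideal R).IsPrime := Ideal.isPrime_bot
  let e : (⊥ : Ideal R).ResidueField ≃ₐ[R] FractionRing R := IsLocalization.algEquiv (nonZeroDivisors R) _ _
  have h0 : Function.Exact ((u.restrictScalars R).baseChange (⊥ : Ideal R).ResidueField)
      ((v.restrictScalars R).baseChange (⊥ : Ideal R).ResidueField) := by
    have key : ∀ {M N : Type u} [AddCommGroup M] [Module R M] [AddCommGroup N] [Module R N] (g : M →ₗ[R] N),
        (g.lTensor (FractionRing R)) ∘ₗ (TensorProduct.congr e.toLinearEquiv (LinearEquiv.refl R M)).toLinearMap =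
          (TensorProduct.congr e.toLinearEquiv (LinearEquiv.refl R N)).toLinearMap ∘ₗ
            g.lTensor (⊥ : Ideal R).ResidueField := fun g => TensorProduct.ext' fun x y => rfl
    exact (Function.Exact.iff_of_ladder_linearEquiv
      (f₁₂ := (u.restrictScalars R).lTensor (⊥ : Ideal R).ResidueField)
      (f₂₃ := (v.restrictScalars R).lTensor (⊥ : Ideal R).ResidueField) (key _) (key _)).1 hgen
  obtain ⟨f, hf, hall⟩ := exists_forall_exAt U V W ((h ⊥).1 h0)
  refine ⟨f, hf, fun p hp => (h p.asIdeal).2 fun r hr => hall r ?_⟩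
  rw [hr]
  exact hp

end Groth.Agent.ExactConstrLib
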