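import Groth.Agent.ExactConstrLib.Local
import Groth.Agent.GenFree.Algebra

/-!
Generic behaviour of the fibres of a sequence given by matrices.
-/

set_option autoImplicit false
set_option linter.style.haveILetI false
universe u

open Matrix TensorProduct

noncomputable section

namespace Groth.Agent.ExactConstrLib

open FibreDepth GenFree

section Retract

variable {R : Type u} [CommRing R] {M : Type u} [AddCommGroup M] [Module R M]

/-- A submodule with generically free quotient is pure away from the bad element. -/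
theorem exists_pow_smul_mem (N : Submodule R M) {f : R} (hfree : FreeAt R (M ⧸ N) f) (p : Ideal R) {m : M}
    (hm : m ∈ N) (hmp : m ∈ p • (⊤ : Submodule R M)) : ∃ n : ℕ, f ^ n • m ∈ p • N := by
  let Af := Localization.Away f
  let i := N.subtype.baseChange Af
  let q := N.mkQ.baseChange Af
  have hi : Function.Injective i := by
    have := Module.Flat.lTensor_preserves_injective_linearMap (M := Af) N.subtype N.injective_subtype
    exact this
  have hq : Function.Surjective q := LinearMap.lTensor_surjective Af N.mkQ_surjective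
  have hex : Function.Exact i q := lTensor_exact Af (LinearMap.exact_subtype_mkQ N) N.mkQ_surjective
  haveI : Module.Free Af (Af ⊗[R] (M ⧸ N)) := hfree
  obtain ⟨σ, hσ⟩ := Module.projective_lifting_property q LinearMap.id hq
  let e := LinearEquiv.ofInjective i hi
  let g : Af ⊗[R] M →ₗ[Af] LinearMap.range i := LinearMap.codRestrict _ ((LinearMap.id : Af ⊗[R] M →ₗ[Af] Af ⊗[R] M) - σ ∘ₗ q) fun z => by
    have h0 : q (z - σ (q z)) = 0 := by
      rw [map_sub, show q (σ (q z)) = q z from LinearMap.congr_fun hσ (q z), sub_self]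
    exact (hex _).1 h0
  let ρ : Af ⊗[R] M →ₗ[Af] Af ⊗[R] N := e.symm.toLinearMap ∘ₗ g
  have hρ : ∀ z, ρ (i z) = z := fun z => by
    refine (LinearEquiv.symm_apply_eq e).2 (Subtype.ext ?_)
    show i z - σ (q (i z)) = i z
    rw [hex.apply_apply_eq_zero, map_zero, sub_zero]
  let ι : N →ₗ[R] Af ⊗[R] N := TensorProduct.mk R Af N 1
  haveI : IsLocalizedModule (Submonoid.powers f) ι :=
    (isLocalizedModule_iff_isBaseChange (Submonoid.powers f) Af ι).2 (TensorProduct.isBaseChange R N Af)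
  have h1 : ι ⟨m, hm⟩ ∈ p • (⊤ : Submodule R (Af ⊗[R] N)) := by
    have e1 : ι ⟨m, hm⟩ = (ρ.restrictScalars R) (TensorProduct.mk R Af M 1 m) := (hρ _).symm
    rw [e1]
    have h2 : (ρ.restrictScalars R) (TensorProduct.mk R Af M 1 m) ∈
        (p • (⊤ : Submodule R M)).map ((ρ.restrictScalars R) ∘ₗ TensorProduct.mk R Af M 1) :=
      Submodule.mem_map_of_mem (f := (ρ.restrictScalars R) ∘ₗ TensorProduct.mk R Af M 1) hmp
    rw [Submodule.map_smul''] at h2
    exact Submodule.smul_mono le_rfl le_top h2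
  have h3 : ∀ z ∈ p • (⊤ : Submodule R (Af ⊗[R] N)),
      ∃ (n : ℕ) (y : N), y ∈ p • (⊤ : Submodule R N) ∧ f ^ n • z = ι y := by
    intro z hz
    refine Submodule.smul_induction_on hz (fun r hr z _ => ?_) (fun z w hz hw => ?_)
    · obtain ⟨⟨y, ⟨_, n, rfl⟩⟩, hy⟩ := IsLocalizedModule.surj (Submonoid.powers f) ι z
      refine ⟨n, r • y, Submodule.smul_mem_smul hr Submodule.mem_top, ?_⟩
      rw [map_smul, smul_comm]
      exact congrArg (r • ·) hy
    · obtain ⟨n, y, hy, hzy⟩ := hz
      obtain ⟨n', y', hy', hwy⟩ := hw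
      refine ⟨n + n', f ^ n' • y + f ^ n • y', add_mem (Submodule.smul_mem _ _ hy) (Submodule.smul_mem _ _ hy'), ?_⟩
      rw [map_add, map_smul, map_smul, ← hzy, ← hwy, smul_smul, smul_smul, smul_add, pow_add,
        mul_comm (f ^ n') (f ^ n)]
  obtain ⟨n, y, hy, hny⟩ := h3 _ h1
  rw [← map_smul, IsLocalizedModule.eq_iff_exists (Submonoid.powers f)] at hny
  obtain ⟨⟨_, k, rfl⟩, hk⟩ := hny
  refine ⟨k + n, ?_⟩
  have h4 : f ^ k • y ∈ p • (⊤ : Submodule R N) := Submodule.smul_mem _ _ hy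
  have h5 : N.subtype (f ^ k • y) ∈ (p • (⊤ : Submodule R N)).map N.subtype := Submodule.mem_map_of_mem h4
  rw [Submodule.map_smul'', Submodule.map_top, Submodule.range_subtype] at h5
  convert h5 using 1
  rw [pow_add, mul_smul]
  exact congrArg N.subtype hk

end Retract

variable {A P : Type u} [CommRing A] [CommRing P] [Algebra A P]
  {M : Type u} [AddCommGroup M] [Module P M] [Module A M] [IsScalarTower A P M]

theorem exists_pow_smul_mem' (N : Submodule P M) {f : A} (hfree : FreeAt A (M ⧸ N) f) (p : Ideal A) {m : M}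
    (hm : m ∈ N) (hmp : m ∈ p.map (algebraMap A P) • (⊤ : Submodule P M)) :
    ∃ n : ℕ, algebraMap A P f ^ n • m ∈ p.map (algebraMap A P) • N := by
  have hfree' : FreeAt A (M ⧸ N.restrictScalars A) f := by
    haveI : Module.Free (Localization.Away f) (Localization.Away f ⊗[A] (M ⧸ N)) := hfree
    exact Module.Free.of_equiv ((Submodule.Quotient.restrictScalarsEquiv A N).symm.baseChange A (Localization.Away f) _ _)
  have h1 : m ∈ p • (⊤ : Submodule A M) := by
    have h := Ideal.smul_restrictScalars (S := P) p (⊤ : Submodule P M)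
    rw [Submodule.restrictScalars_top] at h
    rw [← h]
    exact hmp
  obtain ⟨n, hn⟩ := exists_pow_smul_mem (N.restrictScalars A) hfree' p (m := m) hm h1
  rw [← Ideal.smul_restrictScalars (S := P) p N] at hn
  exact ⟨n, by rw [← map_pow, algebraMap_smul]; exact hn⟩

omit [Module A M] [IsScalarTower A P M] in
/-- Nakayama at a prime. -/
theorem exists_smul_eq_zero_of_nakayama (N : Submodule P M) (hN : N.FG) (r : PrimeSpectrum P) (J : Ideal P)
    (hJ : J ≤ r.asIdeal) (h : ∀ z ∈ N, ∃ s ∉ r.asIdeal, s • z ∈ J • N) :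
    ∀ z ∈ N, ∃ t ∉ r.asIdeal, t • z = 0 := by
  haveI : Module.Finite P N := Module.Finite.iff_fg.2 hN
  let O := Localization.AtPrime r.asIdeal
  let T := LocalizedModule r.asIdeal.primeCompl N
  let g := LocalizedModule.mkLinearMap r.asIdeal.primeCompl N
  haveI : Module.Finite O T := Module.Finite.of_isLocalizedModule r.asIdeal.primeCompl g
  have hgJ : ∀ y ∈ J • (⊤ : Submodule P N), g y ∈ IsLocalRing.maximalIdeal O • (⊤ : Submodule O T) := by
    intro y hy
    refine Submodule.smul_induction_on hy (fun j hj y _ => ?_) (fun y y' hy hy' => ?_)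
    · rw [map_smul, ← algebraMap_smul O j]
      exact Submodule.smul_mem_smul
        ((IsLocalization.AtPrime.to_map_mem_maximal_iff O r.asIdeal j).2 (hJ hj)) Submodule.mem_top
    · rw [map_add]; exact add_mem hy hy'
  have hle : (⊤ : Submodule O T) ≤ IsLocalRing.maximalIdeal O • (⊤ : Submodule O T) := by
    intro x _
    obtain ⟨⟨y, t⟩, hy⟩ := IsLocalizedModule.surj r.asIdeal.primeCompl g x
    obtain ⟨s, hs, hsy⟩ := h y.1 y.2
    have h5 : s • y ∈ J • (⊤ : Submodule P N) := by
      have h6 : J • N = (J • (⊤ : Submodule P N)).map N.subtype := by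
        rw [Submodule.map_smul'', Submodule.map_top, Submodule.range_subtype]
      rw [h6] at hsy
      obtain ⟨y', hy', he⟩ := hsy
      exact (Subtype.ext he : y' = s • y) ▸ hy'
    have h7 := hgJ _ h5
    rw [map_smul, ← hy, Submonoid.smul_def, smul_smul, ← algebraMap_smul O (s * (t : P))] at h7
    have hu : IsUnit (algebraMap P O (s * t)) := IsLocalization.map_units O
      (⟨s * t, fun hh => (r.isPrime.mem_or_mem hh).elim hs t.2⟩ : r.asIdeal.primeCompl)
    exact (Submodule.smul_mem_iff_of_isUnit _ hu).1 h7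
  have h0 := Submodule.eq_bot_of_le_smul_of_le_jacobson_bot _ _ (Module.finite_def.1 inferInstance) hle
    (IsLocalRing.maximalIdeal_le_jacobson _)
  intro z hz
  have hz0 : g ⟨z, hz⟩ = 0 := by
    have : g ⟨z, hz⟩ ∈ (⊥ : Submodule O T) := h0 ▸ Submodule.mem_top
    exact this
  obtain ⟨⟨t, ht⟩, hzt⟩ := (IsLocalizedModule.eq_zero_iff r.asIdeal.primeCompl g).1 hz0
  exact ⟨t, ht, congrArg Subtype.val hzt⟩

omit [Module A M] [IsScalarTower A P M] [Algebra A P] [CommRing A] in
theorem isOpen_killed (N : Submodule P M) (hN : N.FG) :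
    IsOpen {r : PrimeSpectrum P | ∀ z ∈ N, ∃ t ∉ r.asIdeal, t • z = 0} := by
  haveI : Module.Finite P N := Module.Finite.iff_fg.2 hN
  have : {r : PrimeSpectrum P | ∀ z ∈ N, ∃ t ∉ r.asIdeal, t • z = 0} = (Module.support P N)ᶜ := by
    ext r
    rw [Set.mem_compl_iff, Module.notMem_support_iff', Set.mem_ofPred_eq]
    simp [Subtype.ext_iff]
  rw [this]
  exact Module.isClosed_support.isOpen_compl

omit [Module A M] [IsScalarTower A P M] in
/-- A finite module without support over the generic point is killed by a nonzero element of the base. -/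
theorem exists_ne_zero_killed [IsDomain A] (N : Submodule P M) (hN : N.FG)
    (h : ∀ r : PrimeSpectrum P, basePrime A r = ⊥ → ∀ z ∈ N, ∃ t ∉ r.asIdeal, t • z = 0) :
    ∃ e : A, e ≠ 0 ∧ ∀ z ∈ N, algebraMap A P e • z = 0 := by
  haveI : Module.Finite P N := Module.Finite.iff_fg.2 hN
  by_contra hne
  push Not at hne
  let S : Submonoid P := (nonZeroDivisors A).map (algebraMap A P)
  have hd : Disjoint (Module.annihilator P N : Set P) S := by
    rw [Set.disjoint_left]
    rintro _ hmem ⟨e, he, rfl⟩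
    obtain ⟨z, hz, hz0⟩ := hne e (nonZeroDivisors.ne_zero he)
    exact hz0 (congrArg Subtype.val (Module.mem_annihilator.1 hmem (⟨z, hz⟩ : N)))
  obtain ⟨Q, hQ, hle, hQS⟩ := Ideal.exists_le_prime_disjoint _ S hd
  have hbase : basePrime A (⟨Q, hQ⟩ : PrimeSpectrum P) = ⊥ := by
    refine le_bot_iff.1 fun e he => ?_
    by_contra he0
    exact Set.disjoint_left.1 hQS (show algebraMap A P e ∈ Q from he)
      ⟨e, mem_nonZeroDivisors_of_ne_zero he0, rfl⟩
  have hsupp : (⟨Q, hQ⟩ : PrimeSpectrum P) ∈ Module.support P N := by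
    rw [Module.support_eq_zeroLocus]
    exact hle
  refine (Module.notMem_support_iff'.2 fun z => ?_) hsupp
  obtain ⟨t, ht, htz⟩ := h ⟨Q, hQ⟩ hbase z.1 z.2
  exact ⟨t, ht, Subtype.ext htz⟩

section Matrices

variable {a b c d : ℕ}

omit [Algebra A P] in
theorem mem_smul_top_pi {n : ℕ} (J : Ideal P) (x : Fin n → P) :
    x ∈ J • (⊤ : Submodule P (Fin n → P)) ↔ ∀ i, x i ∈ J := by
  classical
  constructor
  · intro hx
    exact Submodule.smul_induction_on (p := fun x => ∀ i, x i ∈ J) hx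
      (fun j hj y _ i => J.mul_mem_right _ hj) (fun y y' hy hy' i => J.add_mem (hy i) (hy' i))
  · intro h
    rw [pi_eq_sum_univ' x]
    exact Submodule.sum_mem _ fun i _ => Submodule.smul_mem_smul (h i) Submodule.mem_top

theorem nearRange_iff {m n : ℕ} (r : PrimeSpectrum P) (W : Matrix (Fin m) (Fin n) P) (x : Fin m → P) :
    NearRange A r W x ↔ ∃ s ∉ r.asIdeal, s • Submodule.Quotient.mk (p := LinearMap.range W.mulVecLin) x ∈
      basePr A r • (⊤ : Submodule P ((Fin m → P) ⧸ LinearMap.range W.mulVecLin)) := by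
  have key : ∀ x' : Fin m → P, Submodule.Quotient.mk (p := LinearMap.range W.mulVecLin) x' ∈
      basePr A r • (⊤ : Submodule P ((Fin m → P) ⧸ LinearMap.range W.mulVecLin)) ↔
      ∃ y, ∀ i, x' i - (W *ᵥ y) i ∈ basePr A r := by
    intro x'
    have h : basePr A r • (⊤ : Submodule P ((Fin m → P) ⧸ LinearMap.range W.mulVecLin)) =
        (basePr A r • (⊤ : Submodule P (Fin m → P))).map (LinearMap.range W.mulVecLin).mkQ := by
      rw [Submodule.map_smul'', Submodule.map_top, Submodule.range_mkQ]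
    rw [h]
    constructor
    · rintro ⟨z, hz, he⟩
      obtain ⟨y, hy⟩ := (Submodule.Quotient.eq _).1 he
      refine ⟨-y, fun i => ?_⟩
      have : x' i - (W *ᵥ -y) i = z i := by
        rw [Matrix.mulVec_neg, show W *ᵥ y = z - x' from hy]
        simp
      rw [this]
      exact (mem_smul_top_pi _ _).1 hz i
    · rintro ⟨y, hy⟩
      refine ⟨x' - W *ᵥ y, (mem_smul_top_pi _ _).2 hy, (Submodule.Quotient.eq _).2 ⟨-y, ?_⟩⟩
      simp [Matrix.mulVec_neg]
  simp only [NearRange, ← Submodule.Quotient.mk_smul, key, Pi.smul_apply, smul_eq_mul]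

variable [IsDomain A] [IsNoetherianRing A] [Algebra.FiniteType A P]

/-- Generically, exactness of the fibre is the vanishing of the composite and of the homology. -/
theorem exists_stratum (U : Matrix (Fin b) (Fin a) P) (V : Matrix (Fin c) (Fin b) P)
    (W : Matrix (Fin c) (Fin d) P) :
    ∃ f : A, f ≠ 0 ∧ IsOpen {r : PrimeSpectrum P | f ∉ basePrime A r ∧ ExAt A U V W r} ∧
      ((∀ r : PrimeSpectrum P, basePrime A r = ⊥ → ExAt A U V W r) →
        ∃ e : A, e ≠ 0 ∧ ∀ r : PrimeSpectrum P, e ∉ basePrime A r → ExAt A U V W r) := by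
  haveI : IsNoetherianRing P := Algebra.FiniteType.isNoetherianRing A P
  let H := (Fin c → P) ⧸ LinearMap.range W.mulVecLin
  let C := (Fin b → P) ⧸ LinearMap.range U.mulVecLin
  let v : (Fin b → P) →ₗ[P] H := (LinearMap.range W.mulVecLin).mkQ ∘ₗ V.mulVecLin
  let π : (Fin b → P) →ₗ[P] C := (LinearMap.range U.mulVecLin).mkQ
  let N₁ : Submodule P H := LinearMap.range (v ∘ₗ U.mulVecLin)
  let N₂ : Submodule P C := (LinearMap.ker v).map π
  obtain ⟨f₁, -, hf₁, hfree₁, -⟩ := GenFree.exists_module (R := A) (S := P) (M := H ⧸ N₁) one_ne_zero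
  obtain ⟨f₂, -, hf₂, hfree₂, -⟩ := GenFree.exists_module (R := A) (S := P) (M := C ⧸ N₂) one_ne_zero
  obtain ⟨f₃, -, hf₃, hfree₃, -⟩ :=
    GenFree.exists_module (R := A) (S := P) (M := H ⧸ LinearMap.range v) one_ne_zero
  let f := f₁ * f₂ * f₃
  have hf : f ≠ 0 := mul_ne_zero (mul_ne_zero hf₁ hf₂) hf₃
  have h₁ : FreeAt A (H ⧸ N₁) f := hfree₁.of_dvd (dvd_mul_of_dvd_left (dvd_mul_right _ _) _)
  have h₂ : FreeAt A (C ⧸ N₂) f := hfree₂.of_dvd (dvd_mul_of_dvd_left (dvd_mul_left _ _) _)
  have h₃ : FreeAt A (H ⧸ LinearMap.range v) f := hfree₃.of_dvd (dvd_mul_left _ _)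
  have key : ∀ r : PrimeSpectrum P, f ∉ basePrime A r → (ExAt A U V W r ↔
      (∀ z ∈ N₁, ∃ t ∉ r.asIdeal, t • z = 0) ∧ (∀ z ∈ N₂, ∃ t ∉ r.asIdeal, t • z = 0)) := by
    intro r hfr
    let J := basePr A r
    have hJ : J ≤ r.asIdeal := Ideal.map_le_iff_le_comap.2 le_rfl
    have hpow : ∀ n : ℕ, algebraMap A P f ^ n ∉ r.asIdeal := fun n h => hfr (r.isPrime.mem_of_pow_mem n h)
    have hEx : ExAt A U V W r ↔ ∀ x, (∃ s ∉ r.asIdeal, s • v x ∈ J • (⊤ : Submodule P H)) ↔
        (∃ s ∉ r.asIdeal, s • π x ∈ J • (⊤ : Submodule P C)) := by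
      simp only [ExAt, nearRange_iff]
      rfl
    rw [hEx]
    constructor
    · intro h
      refine ⟨exists_smul_eq_zero_of_nakayama N₁ (IsNoetherian.noetherian _) r J hJ ?_,
        exists_smul_eq_zero_of_nakayama N₂ (IsNoetherian.noetherian _) r J hJ ?_⟩
      · rintro _ ⟨y, rfl⟩
        obtain ⟨s, hs, hsy⟩ := (h (U *ᵥ y)).2 ⟨1, r.isPrime.one_notMem, by
          rw [show π (U *ᵥ y) = 0 from (Submodule.Quotient.mk_eq_zero _).2 ⟨y, rfl⟩, smul_zero]
          exact zero_mem _⟩
        obtain ⟨n, hn⟩ := exists_pow_smul_mem' N₁ h₁ (basePrime A r)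
          (N₁.smul_mem s ⟨y, rfl⟩) hsy
        exact ⟨algebraMap A P f ^ n * s, fun hh => (r.isPrime.mem_or_mem hh).elim (hpow n) hs, by
          rw [mul_smul]; exact hn⟩
      · rintro _ ⟨x, hx, rfl⟩
        obtain ⟨s, hs, hsx⟩ := (h x).1 ⟨1, r.isPrime.one_notMem, by
          rw [show v x = 0 from hx, smul_zero]
          exact zero_mem _⟩
        obtain ⟨n, hn⟩ := exists_pow_smul_mem' N₂ h₂ (basePrime A r)
          (N₂.smul_mem s ⟨x, hx, rfl⟩) hsx
        exact ⟨algebraMap A P f ^ n * s, fun hh => (r.isPrime.mem_or_mem hh).elim (hpow n) hs, by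
          rw [mul_smul]; exact hn⟩
    · rintro ⟨hN₁, hN₂⟩ x
      constructor
      · rintro ⟨s, hs, hsx⟩
        obtain ⟨n, hn⟩ := exists_pow_smul_mem' (LinearMap.range v) h₃ (basePrime A r)
          ⟨s • x, map_smul v s x⟩ hsx
        have hmv : J • LinearMap.range v = (J • (⊤ : Submodule P (Fin b → P))).map v := by
          rw [Submodule.map_smul'', Submodule.map_top]
        replace hn := hmv.le hn
        obtain ⟨z, hz, hvz⟩ := hn
        obtain ⟨t, ht, htx⟩ := hN₂ (π ((algebraMap A P f ^ n * s) • x - z)) ⟨_, by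
          rw [SetLike.mem_coe, LinearMap.mem_ker, map_sub, map_smul, hvz, mul_smul, sub_self], rfl⟩
        refine ⟨t * (algebraMap A P f ^ n * s), fun hh => (r.isPrime.mem_or_mem hh).elim ht
          fun hh => (r.isPrime.mem_or_mem hh).elim (hpow n) hs, ?_⟩
        rw [map_sub, smul_sub, sub_eq_zero, map_smul] at htx
        rw [mul_smul, htx]
        refine Submodule.smul_mem _ _ ?_
        have := Submodule.mem_map_of_mem (f := π) hz
        rw [Submodule.map_smul''] at this
        exact Submodule.smul_mono le_rfl le_top this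
      · rintro ⟨s, hs, hsx⟩
        have hmπ : J • (⊤ : Submodule P C) = (J • (⊤ : Submodule P (Fin b → P))).map π := by
          rw [Submodule.map_smul'', Submodule.map_top, Submodule.range_mkQ]
        rw [← map_smul] at hsx
        replace hsx := hmπ.le hsx
        obtain ⟨z, hz, hzx⟩ := hsx
        obtain ⟨y, hy⟩ := (Submodule.Quotient.eq _).1 hzx
        obtain ⟨t, ht, hty⟩ := hN₁ (v (U *ᵥ y)) ⟨y, rfl⟩
        refine ⟨t * s, fun hh => (r.isPrime.mem_or_mem hh).elim ht hs, ?_⟩
        have e : (t * s) • v x = t • v z := by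
          rw [mul_smul, ← map_smul v, ← sub_eq_zero, ← smul_sub, ← map_sub,
            show s • x - z = -(U *ᵥ y) by rw [show U *ᵥ y = z - s • x from hy, neg_sub], map_neg, smul_neg, hty,
            neg_zero]
        rw [e]
        refine Submodule.smul_mem _ _ ?_
        have := Submodule.mem_map_of_mem (f := v) hz
        rw [Submodule.map_smul''] at this
        exact Submodule.smul_mono le_rfl le_top this
  refine ⟨f, hf, ?_, fun hgen => ?_⟩
  · have hset : {r : PrimeSpectrum P | f ∉ basePrime A r ∧ ExAt A U V W r} =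
        (PrimeSpectrum.basicOpen (algebraMap A P f) : Set (PrimeSpectrum P)) ∩
          ({r | ∀ z ∈ N₁, ∃ t ∉ r.asIdeal, t • z = 0} ∩ {r | ∀ z ∈ N₂, ∃ t ∉ r.asIdeal, t • z = 0}) := by
      ext r
      simp only [Set.mem_inter_iff, Set.mem_ofPred_eq, SetLike.mem_coe, PrimeSpectrum.mem_basicOpen]
      exact ⟨fun ⟨h, h'⟩ => ⟨h, (key r h).1 h'⟩, fun ⟨h, h'⟩ => ⟨h, (key r h).2 h'⟩⟩
    rw [hset]
    exact PrimeSpectrum.isOpen_basicOpen.inter
      ((isOpen_killed N₁ (IsNoetherian.noetherian _)).inter (isOpen_killed N₂ (IsNoetherian.noetherian _)))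
  · have hbot : ∀ r : PrimeSpectrum P, basePrime A r = ⊥ → f ∉ basePrime A r := fun r hr => by
      rw [hr]; exact hf
    obtain ⟨e₁, he₁, hk₁⟩ := exists_ne_zero_killed (A := A) N₁ (IsNoetherian.noetherian _)
      fun r hr => ((key r (hbot r hr)).1 (hgen r hr)).1
    obtain ⟨e₂, he₂, hk₂⟩ := exists_ne_zero_killed (A := A) N₂ (IsNoetherian.noetherian _)
      fun r hr => ((key r (hbot r hr)).1 (hgen r hr)).2
    refine ⟨f * (e₁ * e₂), mul_ne_zero hf (mul_ne_zero he₁ he₂), fun r hr => ?_⟩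
    have hr1 : f ∉ basePrime A r := fun h => hr (Ideal.mul_mem_right _ _ h)
    have hr2 : algebraMap A P e₁ ∉ r.asIdeal := fun h => hr (Ideal.mul_mem_left _ _ (Ideal.mul_mem_right _ _ h))
    have hr3 : algebraMap A P e₂ ∉ r.asIdeal := fun h => hr (Ideal.mul_mem_left _ _ (Ideal.mul_mem_left _ _ h))
    exact (key r hr1).2 ⟨fun z hz => ⟨_, hr2, hk₁ z hz⟩, fun z hz => ⟨_, hr3, hk₂ z hz⟩⟩

end Matrices

end Groth.Agent.ExactConstrLib
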